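import Groth.Agent.SchFinLib.Sect

/-!
# Well-connected spaces
-/

set_option autoImplicit false
set_option linter.style.haveILetI false

open SchFin

universe u

namespace Groth.Agent.SchFinLib

theorem connectedSpace_iff_idempotent {R : Type u} [CommRing R] :
    ConnectedSpace (PrimeSpectrum R) ↔
      Nontrivial R ∧ ∀ e : R, IsIdempotentElem e → e = 0 ∨ e = 1 := by
  constructor
  · intro h
    refine ⟨PrimeSpectrum.nontrivial (h.toNonempty.some), fun e he => ?_⟩
    rcases isClopen_iff.1 (PrimeSpectrum.isClopen_iff.2 ⟨e, he, rfl⟩) with h0 | h1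
    · refine Or.inl ?_
      have hnil : IsNilpotent e := PrimeSpectrum.basicOpen_eq_bot_iff e |>.1
        (TopologicalSpace.Opens.ext h0)
      exact he.eq_zero_of_isNilpotent hnil
    · refine Or.inr ?_
      have hu : IsUnit e := by
        by_contra hne
        obtain ⟨m, hm, hem⟩ := exists_max_ideal_of_mem_nonunits hne
        exact (Set.eq_univ_iff_forall.1 h1 ⟨m, hm.isPrime⟩) hem
      exact hu.mul_left_cancel (he.eq.trans (mul_one e).symm)
  · rintro ⟨hn, h⟩
    refine { toPreconnectedSpace := preconnectedSpace_iff_clopen.2 fun s hs => ?_,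
             toNonempty := inferInstance }
    obtain ⟨e, he, rfl⟩ := PrimeSpectrum.isClopen_iff.1 hs
    rcases h e he with rfl | rfl
    · exact Or.inl (by simp)
    · exact Or.inr (by simp)

theorem isWellConnected_iff (X : RSpace.{u}) :
    X.IsWellConnected ↔ (X.IsTopConnected ∧ X.IsPwConnected) := by
  classical
  refine ⟨fun ⟨hc, hp⟩ => ⟨?_, hp⟩, fun ⟨⟨hne, ht⟩, hp⟩ => ⟨?_, hp⟩⟩
  · obtain ⟨hn, hid⟩ := connectedSpace_iff_idempotent.1 hc
    have hne : Nonempty X.pt := by
      by_contra hE
      haveI : IsEmpty ↥(Set.univ : Set X.pt) := ⟨fun q => hE ⟨q.1⟩⟩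
      exact not_subsingleton (X.sectRing Set.univ) subsingleton_sectRing
    refine ⟨hne, fun p q => ?_⟩
    let s : X.sectRing (Set.univ : Set X.pt) :=
      ⟨fun r => if Relation.EqvGen (fun a b : X.pt => a ≤ b) p r.1 then 1 else 0, fun r r' h => by
        by_cases hr : Relation.EqvGen (fun a b : X.pt => a ≤ b) p r.1
        · have hr' := hr.trans _ _ _ (Relation.EqvGen.rel _ _ h)
          simp only [if_pos hr, if_pos hr', map_one]
        · have hr' : ¬ Relation.EqvGen (fun a b : X.pt => a ≤ b) p r'.1 := fun h' =>
            hr (h'.trans _ _ _ ((Relation.EqvGen.rel _ _ h).symm _ _))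
          simp only [if_neg hr, if_neg hr', map_zero]⟩
    have hs : IsIdempotentElem s := sect_ext fun r => by
      show s.1 r * s.1 r = s.1 r
      by_cases hr : Relation.EqvGen (fun a b : X.pt => a ≤ b) p r.1 <;> simp [s, hr]
    rcases hid s hs with h0 | h1
    · haveI := hp p
      have hnp : Nontrivial (X.ring p) := (connectedSpace_iff_idempotent.1 (hp p)).1
      have : (1 : X.ring p) = 0 := by
        simpa [s, if_pos (Relation.EqvGen.refl p)] using congrFun (congrArg Subtype.val h0) ⟨p, trivial⟩
      exact absurd this one_ne_zero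
    · by_contra hq
      have hnq : Nontrivial (X.ring q) := (connectedSpace_iff_idempotent.1 (hp q)).1
      have : (0 : X.ring q) = 1 := by
        simpa [s, if_neg hq] using congrFun (congrArg Subtype.val h1) ⟨q, trivial⟩
      exact absurd this zero_ne_one
  · refine connectedSpace_iff_idempotent.2 ⟨?_, fun e he => ?_⟩
    · obtain ⟨p⟩ := hne
      haveI := (connectedSpace_iff_idempotent.1 (hp p)).1
      exact (X.evalRing Set.univ ⟨p, trivial⟩).domain_nontrivial
    · have key : ∀ p q : X.pt, Relation.EqvGen (fun a b : X.pt => a ≤ b) p q →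
          (e.1 ⟨p, trivial⟩ = 1 ↔ e.1 ⟨q, trivial⟩ = 1) := by
        intro p q h
        induction h with
        | rel a b hab =>
          rcases (connectedSpace_iff_idempotent.1 (hp a)).2 _
            (he.map (X.evalRing Set.univ ⟨a, trivial⟩)) with h0 | h1
          · have hb := e.2 ⟨a, trivial⟩ ⟨b, trivial⟩ hab
            rw [show e.1 ⟨a, trivial⟩ = 0 from h0, map_zero] at hb
            haveI := (connectedSpace_iff_idempotent.1 (hp a)).1
            haveI := (connectedSpace_iff_idempotent.1 (hp b)).1
            rw [show e.1 ⟨a, trivial⟩ = 0 from h0, ← hb]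
            simp
          · have hb := e.2 ⟨a, trivial⟩ ⟨b, trivial⟩ hab
            rw [show e.1 ⟨a, trivial⟩ = 1 from h1, map_one] at hb
            exact iff_of_true h1 hb.symm
        | refl => rfl
        | symm _ _ _ ih => exact ih.symm
        | trans _ _ _ _ _ i1 i2 => exact i1.trans i2
      obtain ⟨p⟩ := hne
      rcases (connectedSpace_iff_idempotent.1 (hp p)).2 _
        (he.map (X.evalRing Set.univ ⟨p, trivial⟩)) with h0 | h1
      · refine Or.inl (sect_ext fun q => ?_)
        rcases (connectedSpace_iff_idempotent.1 (hp q.1)).2 _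
          (he.map (X.evalRing Set.univ q)) with hq | hq
        · exact hq
        · haveI := (connectedSpace_iff_idempotent.1 (hp p)).1
          exact absurd (((key p q.1 (ht p q.1)).2 hq).symm.trans h0) one_ne_zero
      · exact Or.inr (sect_ext fun q => (key p q.1 (ht p q.1)).1 h1)

/-- A family of idempotents compatible along a connected poset. -/
theorem idempotent_const {X : RSpace.{u}} (hX : X.IsWellConnected)
    (e : ∀ p, X.ring p) (he : ∀ p, IsIdempotentElem (e p))
    (hc : ∀ p q (h : p ≤ q), X.res h (e p) = e q) : (∀ p, e p = 0) ∨ ∀ p, e p = 1 := by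
  rcases (connectedSpace_iff_idempotent.1 hX.1).2 (⟨fun q => e q.1, fun q q' h => hc _ _ h⟩ : X.sectRing Set.univ)
    (sect_ext fun q => he q.1) with h0 | h1
  · exact Or.inl fun p => congrFun (congrArg Subtype.val h0) ⟨p, trivial⟩
  · exact Or.inr fun p => congrFun (congrArg Subtype.val h1) ⟨p, trivial⟩

end Groth.Agent.SchFinLib
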