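import Groth.Agent.SchFinLib.Sect

/-!
# Consequences of the schematic condition
-/

set_option autoImplicit false
set_option linter.style.haveILetI false

open SchFin

universe u

namespace Groth.Agent.SchFinLib

variable {X : RSpace.{u}}

theorem isPO_subSrc (hX : X.IsSchematic) {x x' : X.pt} (hx : x ≤ x') (y : X.pt) :
    IsPO (X.res hx) (toSect (Coef.ofLE x ((Hom.id X).wedge x y) ((Hom.id X).wedge_subset_up x y)))
      (sectRes ((Hom.id X).subSrc hx y).le)
      (toSect (Coef.ofLE x' ((Hom.id X).wedge x' y) ((Hom.id X).wedge_subset_up x' y))) :=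
  (isBCAlong_resH_zero_iff _).1 (hX.2.2 0 x x' hx y y le_rfl).1

/-- The ring of sections over a set with least point is the ring of that point. -/
noncomputable def evalEquiv {U : Set X.pt} (m : U) (hm : ∀ q : U, m.1 ≤ q.1) :
    X.sectRing U ≃+* X.ring m.1 :=
  RingEquiv.ofBijective _ (evalRing_bijective_of_least m hm)

/-- Restrictions are epimorphisms. -/
theorem isEpiHom_res (hX : X.IsSchematic) {x y : X.pt} (h : x ≤ y) : IsEpiHom (X.res h) := by
  refine IsPO.isEpiHom ((isPO_subSrc hX h y).congr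
    (evalEquiv (U := (Hom.id X).wedge x y) ⟨y, h, le_rfl⟩ fun q => q.2.2)
    (evalEquiv (U := (Hom.id X).wedge y y) ⟨y, le_rfl, le_rfl⟩ fun q => q.2.2)
    (X.res h) (RingHom.id _) (RingHom.id _) (fun r => ?_) (fun a => ?_) fun s => ?_)
  · rfl
  · rfl
  · exact (X.res_self y s).symm

/-- The two restrictions to the sections over the common points. -/
def interMap {x x' : X.pt} : X.ring x →+* X.sectRing (X.up x ∩ X.up x') :=
  X.resSect x _ Set.inter_subset_left

def interMap' {x x' : X.pt} : X.ring x' →+* X.sectRing (X.up x ∩ X.up x') :=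
  X.resSect x' _ Set.inter_subset_right

/-- For two points above a common one, the sections over their common points form the pushout. -/
theorem isPO_inter (hX : X.IsSchematic) {s x x' : X.pt} (h : s ≤ x) (h' : s ≤ x') :
    IsPO (X.res h) (X.res h') (interMap' (x := x) (x' := x')) (interMap (x := x) (x' := x')) := by
  refine (isPO_subSrc hX h x').congr (evalEquiv (U := (Hom.id X).wedge s x') ⟨x', h', le_rfl⟩ fun q => q.2.2)
    (RingEquiv.refl (X.sectRing (X.up x ∩ X.up x'))) _ _ _ (fun r => ?_) (fun a => ?_) fun s => ?_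
  · rfl
  · refine sect_ext fun q => ?_
    exact a.2 ⟨x', h', le_rfl⟩ ⟨q.1, h.trans q.2.1, q.2.2⟩ q.2.2
  · rfl

/-- Points over primes with the same contraction to a common smaller point are related. -/
theorem pairRel_of_comap_eq (hX : X.IsSchematic)
    (hff : ∀ s a b : X.pt, s ≤ a → s ≤ b → (X.up a ∩ X.up b).Nonempty →
      Module.FaithfullyFlat (X.sectRing (X.up a ∩ X.up b))
        ((q : ↥(X.up a ∩ X.up b)) → X.ring q.1))
    {s x y : X.pt} (hx : s ≤ x) (hy : s ≤ y) (P : PrimeSpectrum (X.ring x))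
    (Q : PrimeSpectrum (X.ring y))
    (hPQ : PrimeSpectrum.comap (X.res hx) P = PrimeSpectrum.comap (X.res hy) Q) :
    X.PairRel ⟨x, P⟩ ⟨y, Q⟩ := by
  obtain ⟨r, hP, hQ⟩ := (isPO_inter hX hx hy).exists_prime P Q hPQ
  by_cases hne : (X.up x ∩ X.up y).Nonempty
  · haveI := hff s x y hx hy hne
    obtain ⟨p, hp⟩ := PrimeSpectrum.comap_surjective_of_faithfullyFlat
      (B := (q : ↥(X.up x ∩ X.up y)) → X.ring q.1) r
    obtain ⟨z, ρ, rfl⟩ := PrimeSpectrum.exists_comap_evalRingHom_eq p
    refine ⟨z.1, z.2.1, z.2.2, ρ, ?_, ?_⟩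
    · show _ = P
      rw [← hP, ← hp]
      rfl
    · show _ = Q
      rw [← hQ, ← hp]
      rfl
  · haveI : IsEmpty ↥(X.up x ∩ X.up y) := Set.isEmpty_coe_sort.2 (Set.not_nonempty_iff_eq_empty.1 hne)
    exact (r.2.ne_top ((Ideal.eq_top_iff_one _).2
      (by rw [(subsingleton_sectRing (X := X)).elim (1 : X.sectRing _) 0]; exact zero_mem _))).elim

theorem comap_res_res {a b c : X.pt} (h : a ≤ b) (h' : b ≤ c) (r : PrimeSpectrum (X.ring c)) :
    PrimeSpectrum.comap (X.res h) (PrimeSpectrum.comap (X.res h') r) =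
      PrimeSpectrum.comap (X.res (h.trans h')) r := by
  have e : (X.res h').comp (X.res h) = X.res (h.trans h') := RingHom.ext fun t => X.res_comp h h' t
  rw [← e, PrimeSpectrum.comap_comp]
  rfl

theorem comap_res_self {a : X.pt} (P : PrimeSpectrum (X.ring a)) :
    PrimeSpectrum.comap (X.res (le_refl a)) P = P := by
  have e : X.res (le_refl a) = RingHom.id _ := RingHom.ext fun t => X.res_self a t
  rw [e]
  rfl

theorem pairRel_refl (a : X.Pair) : X.PairRel a a :=
  ⟨a.1, le_rfl, le_rfl, a.2, comap_res_self _, comap_res_self _⟩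

theorem pairRel_symm {a b : X.Pair} (h : X.PairRel a b) : X.PairRel b a := by
  obtain ⟨z, hx, hy, r, h1, h2⟩ := h
  exact ⟨z, hy, hx, r, h2, h1⟩

theorem pairRel_equivalence (hX : X.IsSchematic)
    (hff : ∀ s a b : X.pt, s ≤ a → s ≤ b → (X.up a ∩ X.up b).Nonempty →
      Module.FaithfullyFlat (X.sectRing (X.up a ∩ X.up b))
        ((q : ↥(X.up a ∩ X.up b)) → X.ring q.1)) :
    Equivalence X.PairRel where
  refl := pairRel_refl
  symm := pairRel_symm
  trans {a b c} hab hbc := by
    obtain ⟨z, hx, hy, r, h1, h2⟩ := hab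
    obtain ⟨z', hx', hy', r', h1', h2'⟩ := hbc
    obtain ⟨w, hz, hz', t, e1, e2⟩ := pairRel_of_comap_eq hX hff hy hx' r r' (h2.trans h1'.symm)
    exact ⟨w, hx.trans hz, hy'.trans hz', t,
      (comap_res_res hx hz t).symm.trans ((congrArg _ e1).trans h1),
      (comap_res_res hy' hz' t).symm.trans ((congrArg _ e2).trans h2')⟩

/-- Related pairs at one point are equal. -/
theorem eq_of_pairRel {x : X.pt} {P Q : PrimeSpectrum (X.ring x)} (h : X.PairRel ⟨x, P⟩ ⟨x, Q⟩) :
    P = Q := by
  obtain ⟨z, hx, hy, r, h1, h2⟩ := h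
  exact h1.symm.trans h2

end Groth.Agent.SchFinLib

namespace Groth.Agent.SchFinLib

variable {X : RSpace.{u}}

theorem bijective_localRingHom_res (hX : X.IsSchematic) {x y : X.pt} (h : x ≤ y)
    (P : Ideal (X.ring y)) [P.IsPrime] :
    Function.Bijective (Localization.localRingHom (P.comap (X.res h)) P (X.res h) rfl) := by
  let Q := P.comap (X.res h)
  let ψ := Localization.localRingHom Q P (X.res h) rfl
  have hc : ψ.comp (algebraMap (X.ring x) _) = (algebraMap (X.ring y) _).comp (X.res h) :=
    RingHom.ext (Localization.localRingHom_to_map Q P (X.res h) rfl)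
  letI := (X.res h).toAlgebra
  letI := ψ.toAlgebra
  haveI : IsScalarTower (X.ring x) (Localization.AtPrime Q) (Localization.AtPrime P) :=
    IsScalarTower.of_algebraMap_eq fun r => by
      rw [IsScalarTower.algebraMap_apply (X.ring x) (X.ring y) (Localization.AtPrime P)]
      exact (congr($hc r)).symm
  haveI : Module.Flat (X.ring x) (X.ring y) := hX.1.2 x y h
  haveI : Module.Flat (X.ring y) (Localization.AtPrime P) :=
    IsLocalization.flat (Localization.AtPrime P) P.primeCompl
  haveI : Module.Flat (X.ring x) (Localization.AtPrime P) :=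
    Module.Flat.trans (X.ring x) (X.ring y) _
  haveI : Module.Flat (Localization.AtPrime Q) (Localization.AtPrime P) :=
    (Module.flat_iff_of_isLocalization (Localization.AtPrime Q) Q.primeCompl _).2 inferInstance
  haveI : IsLocalHom (algebraMap (Localization.AtPrime Q) (Localization.AtPrime P)) :=
    Localization.isLocalHom_localRingHom _ _ _ rfl
  haveI : Module.FaithfullyFlat (Localization.AtPrime Q) (Localization.AtPrime P) :=
    Module.FaithfullyFlat.of_flat_of_isLocalHom
  refine bijective_of_isEpiHom_of_faithfullyFlat (IsEpiHom.of_comp (f := algebraMap (X.ring x) _) ?_)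
  show IsEpiHom (ψ.comp _)
  rw [hc]
  exact (isEpiHom_res hX h).comp (isEpiHom_algebraMap_localization _ P.primeCompl)

theorem bijective_κMap (hX : X.IsSchematic) (a b : X.Pair) (h : a.1 ≤ b.1)
    (hp : PrimeSpectrum.comap (X.res h) b.2 = a.2) :
    Function.Bijective (RSpace.Pair.κMap a b h hp) := by
  refine bijective_of_isEpiHom_field _ (IsEpiHom.of_comp (f := algebraMap (X.ring a.1) a.κ) ?_)
  have hc : (RSpace.Pair.κMap a b h hp).comp (algebraMap (X.ring a.1) a.κ) =
      ((algebraMap (X.ring b.1 ⧸ b.2.asIdeal) b.κ).comp (Ideal.Quotient.mk b.2.asIdeal)).comp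
        (X.res h) :=
    RingHom.ext fun r => by
      refine (Ideal.ResidueField.map_algebraMap _ _ _ _ r).trans ?_
      exact IsScalarTower.algebraMap_apply (X.ring b.1) (X.ring b.1 ⧸ b.2.asIdeal) b.κ _
  rw [hc]
  exact (isEpiHom_res hX h).comp ((IsEpiHom.of_surjective Ideal.Quotient.mk_surjective).comp
    (isEpiHom_algebraMap_localization _ (nonZeroDivisors _)))

end Groth.Agent.SchFinLib
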