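import Groth.Agent.SchFinLib.Schem

/-!
# Geometric points
-/

set_option autoImplicit false
set_option linter.style.haveILetI false

open SchFin

universe u

namespace Groth.Agent.SchFinLib

variable {X : RSpace.{u}} {Ω : Type u} [Field Ω] [IsAlgClosed Ω]

theorem ringHom_subsingleton {B T : Type u} [CommRing B] [CommRing T] [Subsingleton B]
    (a : B →+* T) : Subsingleton T :=
  subsingleton_of_zero_eq_one (by rw [← map_zero a, ← map_one a, Subsingleton.elim (0 : B) 1])

theorem nonempty_hom_of_subsingleton (B T : Type u) [CommRing B] [CommRing T] [Subsingleton T] :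
    Nonempty (B →+* T) :=
  ⟨{ toFun := fun _ => 0
     map_one' := Subsingleton.elim _ _
     map_mul' := fun _ _ => Subsingleton.elim _ _
     map_zero' := rfl
     map_add' := fun _ _ => Subsingleton.elim _ _ }⟩

/-- The condition on a point and a field value of its ring to be a geometric point. -/
def GeomCond (x : X.pt) (φ : X.ring x →+* Ω) : Prop :=
  ∀ (y y' : X.pt) (hy : y ≤ x) (hyy' : y ≤ y') (T : Type u) [CommRing T] [Nontrivial T]
    (a : X.ring y' →+* T) (b : Ω →+* T), a.comp (X.res hyy') = (b.comp φ).comp (X.res hy) →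
      ∃ h : y' ≤ x, a = (b.comp φ).comp (X.res h)

theorem geomCond_geomPt (ξ : GeomPt X Ω) : GeomCond ξ.base ξ.toField := by
  intro y y' hy hyy' T _ _ a b e
  have hPO := (isBCAlong_resH_zero_iff _).1 (ξ.isSchematic.2.2 0 PUnit.unit PUnit.unit le_rfl y y' hyy').2
  let U := ξ.hom.wedge PUnit.unit y
  let m : U := ⟨PUnit.unit, le_rfl, hy⟩
  obtain ⟨k, hk1, hk2⟩ := hPO.exists_lift a (b.comp ((RSpace.point Ω).evalRing U m))
    (RingHom.ext fun r => by
      have := congr($e r)
      exact this.symm)
  by_cases hy' : y' ≤ ξ.base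
  · refine ⟨hy', RingHom.ext fun r => ?_⟩
    rw [← hk1]
    let t : (RSpace.point Ω).sectRing U := toSect (Coef.ofLE (X := RSpace.point Ω) PUnit.unit U
      (ξ.hom.wedge_subset_up _ _)) (ξ.toField (X.res hy' r))
    have h2 := congr($hk2 t)
    refine Eq.trans (congrArg k (sect_ext fun q => ?_)) h2
    rfl
  · haveI : IsEmpty ↥(ξ.hom.wedge PUnit.unit y') := ⟨fun q => hy' q.2.2⟩
    haveI := subsingleton_sectRing (X := RSpace.point Ω) (U := ξ.hom.wedge PUnit.unit y')
    exact absurd (ringHom_subsingleton k) (not_subsingleton T)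

/-- The kernel of a geometric point does not lift above its base point. -/
theorem not_lift (ξ : GeomPt X Ω) {x' : X.pt} (hx : ξ.base < x') (P : Ideal (X.ring x'))
    [P.IsPrime] : P.comap (X.res hx.le) ≠ RingHom.ker ξ.toField := by
  intro h
  obtain ⟨T, _, _, s, a, hc, -, -⟩ := exists_common (X.res hx.le) ξ.toField ⟨P, inferInstance⟩
    ⟨⊥, Ideal.isPrime_bot⟩ (PrimeSpectrum.ext h)
  obtain ⟨h', -⟩ := geomCond_geomPt ξ ξ.base x' le_rfl hx.le T s a (RingHom.ext fun r => by
    have := congr($hc r)
    simp only [RingHom.comp_apply] at this ⊢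
    rw [X.res_self]
    exact this.symm)
  exact hx.not_ge h'

/-- The morphism from a one-point space given by a point and a field value of its ring. -/
def ptHom (x : X.pt) (φ : X.ring x →+* Ω) : SchFin.Hom (RSpace.point Ω) X where
  fn _ := x
  mono _ _ _ := le_rfl
  app _ := φ
  compat _ b := (congrArg φ (X.res_self x b)).symm

theorem isSchematic_ptHom (hX : X.IsFinSp) (x : X.pt) (φ : X.ring x →+* Ω) (hc : GeomCond x φ) :
    (ptHom x φ).IsSchematic := by
  refine ⟨⟨fun _ => inferInstanceAs (IsNoetherianRing Ω), fun _ _ _ => RingHom.Flat.id Ω⟩, hX,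
    fun n p p' hp y y' hy => ?_⟩
  cases p
  cases p'
  cases n with
  | succ n =>
    have hE : ∀ U : Set (RSpace.point Ω).pt, IsEmpty (Chain U (n + 1)) := fun U =>
      ⟨fun σ => absurd (σ.injective (a₁ := 0) (a₂ := 1) (Subtype.ext rfl)) (by simp)⟩
    constructor <;>
    · haveI := fun (U : Set (RSpace.point Ω).pt) (R : Type u) (_ : CommRing R)
        (c : Coef (RSpace.point Ω) U R) => @subsingleton_H_succ _ U R _ c (RSpace.point Ω).str n (hE U)
      exact isBCAlong_of_subsingleton _
  | zero =>
    constructor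
    · refine (isBCAlong_resH_zero_iff _).2 (IsPO.of_bijective Function.bijective_id
        Function.bijective_id (RingHom.ext fun r => ?_))
      rfl
    · refine (isBCAlong_resH_zero_iff _).2 ⟨RingHom.ext fun r => sect_ext fun q => ?_,
        fun {T} _ a b h1 h2 => ?_, fun {T} _ s a e => ?_⟩
      · exact congrArg φ (X.res_comp _ _ r).symm
      · by_cases hy' : y' ≤ x
        · refine RingHom.ext fun u => ?_
          let t : (RSpace.point Ω).sectRing ((ptHom x φ).wedge PUnit.unit y) :=
            ⟨fun q => u.1 ⟨q.1, le_rfl, hy'⟩, fun _ _ _ => rfl⟩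
          exact congr($h1 t)
        · haveI : IsEmpty ↥((ptHom x φ).wedge PUnit.unit y') := ⟨fun q => hy' q.2.2⟩
          haveI := subsingleton_sectRing (X := RSpace.point Ω) (U := (ptHom x φ).wedge PUnit.unit y')
          haveI := ringHom_subsingleton a
          exact RingHom.ext fun u => Subsingleton.elim _ _
      · rcases subsingleton_or_nontrivial T with hT | hT
        · obtain ⟨k⟩ := nonempty_hom_of_subsingleton
            ((RSpace.point Ω).sectRing ((ptHom x φ).wedge PUnit.unit y')) T
          exact ⟨k, RingHom.ext fun u => Subsingleton.elim _ _,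
            RingHom.ext fun u => Subsingleton.elim _ _⟩
        · by_cases hyx : y ≤ x
          · let U := (ptHom x φ).wedge PUnit.unit y
            let b : Ω →+* T := a.comp (toSect (Coef.ofLE (X := RSpace.point Ω) PUnit.unit U
              ((ptHom x φ).wedge_subset_up _ _)))
            obtain ⟨hy', hs⟩ := hc y y' hyx hy T s b (RingHom.ext fun r => by
              have := congr($e r)
              refine this.symm.trans ?_
              exact congrArg a (sect_ext fun q => rfl))
            let m : (ptHom x φ).wedge PUnit.unit y' := ⟨PUnit.unit, le_rfl, hy'⟩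
            refine ⟨b.comp ((RSpace.point Ω).evalRing _ m), RingHom.ext fun r => ?_,
              RingHom.ext fun u => ?_⟩
            · rw [hs]
              rfl
            · exact congrArg a (sect_ext fun q => rfl)
          · haveI : IsEmpty ↥((ptHom x φ).wedge PUnit.unit y) := ⟨fun q => hyx q.2.2⟩
            haveI := subsingleton_sectRing (X := RSpace.point Ω) (U := (ptHom x φ).wedge PUnit.unit y)
            exact absurd (ringHom_subsingleton a) (not_subsingleton T)

theorem geomPt_ext {ξ η : GeomPt X Ω}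
    (h : (⟨ξ.base, ξ.toField⟩ : Σ x : X.pt, (X.ring x →+* Ω)) = ⟨η.base, η.toField⟩) : ξ = η := by
  obtain ⟨⟨f₁, m₁, a₁, c₁⟩, p₁⟩ := ξ
  obtain ⟨⟨f₂, m₂, a₂, c₂⟩, p₂⟩ := η
  have hf : f₁ = f₂ := funext fun q => by cases q; exact congrArg Sigma.fst h
  subst hf
  have ha : a₁ = a₂ := funext fun q => by
    cases q
    exact eq_of_heq (Sigma.mk.inj h).2
  subst ha
  rfl

/-- Geometric points with given maximal pair and residue value. -/
theorem existsUnique_geomPt (hX : X.IsSchematic)
    (hff : ∀ s a b : X.pt, s ≤ a → s ≤ b → (X.up a ∩ X.up b).Nonempty →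
      Module.FaithfullyFlat (X.sectRing (X.up a ∩ X.up b))
        ((q : ↥(X.up a ∩ X.up b)) → X.ring q.1))
    (a : X.Pair) (ha : ∀ b : X.Pair, X.PairRel a b → b.1 ≤ a.1) (φ : a.κ →+* Ω) :
    ∃! ξ : GeomPt X Ω, (⟨ξ.base, ξ.toField⟩ : Σ x : X.pt, (X.ring x →+* Ω)) =
      ⟨a.1, φ.comp (algebraMap (X.ring a.1) a.κ)⟩ := by
  have hc : GeomCond a.1 (φ.comp (algebraMap (X.ring a.1) a.κ)) := by
    intro y y' hy hyy' T _ _ s b e
    obtain ⟨m, hm⟩ := Ideal.exists_maximal T
    let P' : PrimeSpectrum (X.ring y') := PrimeSpectrum.comap s ⟨m, hm.isPrime⟩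
    have hP : PrimeSpectrum.comap (b.comp (φ.comp (algebraMap (X.ring a.1) a.κ))) ⟨m, hm.isPrime⟩ =
        a.2 := by
      refine PrimeSpectrum.ext ?_
      show m.comap (b.comp (φ.comp (algebraMap _ _))) = _
      rw [← Ideal.comap_comap, ← Ideal.comap_comap,
        show m.comap b = ⊥ from (Ideal.eq_bot_or_top _).resolve_right
          (Ideal.comap_ne_top _ hm.ne_top), ← RingHom.ker_eq_comap_bot φ,
        (RingHom.injective_iff_ker_eq_bot φ).1 φ.injective, ← RingHom.ker_eq_comap_bot,
        Ideal.ker_algebraMap_residueField]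
    have heq : PrimeSpectrum.comap (X.res hy) a.2 = PrimeSpectrum.comap (X.res hyy') P' := by
      rw [← hP]
      show PrimeSpectrum.comap _ (PrimeSpectrum.comap _ _) = PrimeSpectrum.comap _ (PrimeSpectrum.comap _ _)
      rw [← PrimeSpectrum.comap_comp_apply, ← PrimeSpectrum.comap_comp_apply, ← e]
    have hrel := pairRel_of_comap_eq hX hff hy hyy' a.2 P' heq
    have h' : y' ≤ a.1 := ha ⟨y', P'⟩ hrel
    refine ⟨h', (isEpiHom_res hX hyy').eq_of_comp _ _ (e.trans ?_)⟩
    rw [RingHom.comp_assoc _ (X.res h'),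
      show (X.res h').comp (X.res hyy') = X.res hy from RingHom.ext fun t => X.res_comp _ _ t]
  exact ⟨⟨ptHom a.1 _, isSchematic_ptHom hX.1 a.1 _ hc⟩, rfl, fun η hη => geomPt_ext hη⟩

end Groth.Agent.SchFinLib
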