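import Groth.Agent.SchFinLib.Schem
import Mathlib.RingTheory.Flat.FaithfullyFlat.Basic
import Mathlib.RingTheory.Finiteness.Descent
import Mathlib.RingTheory.Etale.Descent
import Mathlib.RingTheory.Etale.Pi
import Mathlib.RingTheory.Localization.Away.Lemmas
import Mathlib.RingTheory.RingHom.Etale
import Mathlib.RingTheory.RingHom.Finite
import Mathlib.RingTheory.RingHom.FaithfullyFlat
import Mathlib.RingTheory.TensorProduct.Basic
import Mathlib.Algebra.DirectSum.Module

/-!
# Sections over an affine set of points
-/

set_option autoImplicit false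
set_option linter.style.haveILetI false

open SchFin TensorProduct

universe u

namespace Groth.Agent.SchFinLib

/-- Change of the base ring by an isomorphism. -/
theorem isBCAlong_ringEquiv {R R' S : Type u} [CommRing R] [CommRing R'] [CommRing S] (e : R ≃+* R')
    (g' : R' →+* S) (g : R →+* S) (hg : ∀ r, g r = g' (e r)) {M M' N : Type u} [AddCommGroup M]
    [AddCommGroup M'] [AddCommGroup N] [Module R M] [Module R' M'] [Module S N] (eM : M ≃+ M')
    (heM : ∀ (r : R) (m : M), eM (r • m) = e r • eM m) (F' : M' →ₛₗ[g'] N) (F : M →ₛₗ[g] N)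
    (hF : ∀ m, F m = F' (eM m)) (h : IsBCAlong g' F') : IsBCAlong g F := by
  letI : Algebra R S := g.toAlgebra
  letI : Algebra R' S := g'.toAlgebra
  letI : Module R N := Module.compHom N g
  letI : Module R' N := Module.compHom N g'
  haveI : IsScalarTower R S N := IsScalarTower.of_algebraMap_smul fun _ _ => rfl
  haveI : IsScalarTower R' S N := IsScalarTower.of_algebraMap_smul fun _ _ => rfl
  unfold IsBCAlong at h
  let f : M →ₗ[R] N := { toFun := F, map_add' := F.map_add, map_smul' := F.map_smulₛₗ }
  let L : S ⊗[R] M →ₗ[S] N := f.liftBaseChange S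
  let d : S →+ M' →+ S ⊗[R] M :=
    AddMonoidHom.mk' (fun s => AddMonoidHom.mk' (fun m' => s ⊗ₜ[R] eM.symm m')
      (fun a b => by rw [map_add, tmul_add])) (fun s t => by ext m'; simp [add_tmul])
  let Θ : S ⊗[R'] M' →+ S ⊗[R] M := TensorProduct.liftAddHom d fun r' s m' => by
    obtain ⟨r, rfl⟩ := e.surjective r'
    show (e r • s) ⊗ₜ[R] eM.symm m' = s ⊗ₜ[R] eM.symm (e r • m')
    rw [show eM.symm (e r • m') = r • eM.symm m' from
      eM.injective (by rw [eM.apply_symm_apply, heM, eM.apply_symm_apply]), ← TensorProduct.smul_tmul]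
    congr 1
    show g' (e r) * s = g r * s
    rw [hg]
  have hLΘ : ∀ y, L (Θ y) = h.equiv y := fun y => by
    induction y using TensorProduct.induction_on with
    | zero => simp
    | add a b ha hb => simp only [map_add, ha, hb]
    | tmul s m' =>
      rw [IsBaseChange.equiv_tmul]
      show L (s ⊗ₜ[R] eM.symm m') = s • F' m'
      rw [LinearMap.liftBaseChange_tmul]
      show s • F (eM.symm m') = _
      rw [hF, eM.apply_symm_apply]
  have hΘ : Function.Surjective Θ := fun x => by
    induction x using TensorProduct.induction_on with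
    | zero => exact ⟨0, map_zero _⟩
    | add a b ha hb =>
      obtain ⟨a', rfl⟩ := ha
      obtain ⟨b', rfl⟩ := hb
      exact ⟨a' + b', map_add _ _ _⟩
    | tmul s m => exact ⟨s ⊗ₜ eM m, congrArg (s ⊗ₜ[R] ·) (eM.symm_apply_apply m)⟩
  have hL : Function.Bijective L := by
    refine ⟨fun a b hab => ?_, fun n => ⟨Θ (h.equiv.symm n), by rw [hLΘ, h.equiv.apply_symm_apply]⟩⟩
    obtain ⟨a', rfl⟩ := hΘ a
    obtain ⟨b', rfl⟩ := hΘ b
    rw [hLΘ, hLΘ] at hab
    rw [h.equiv.injective hab]
  exact IsBaseChange.of_equiv (LinearEquiv.ofBijective L hL) fun x =>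
    (LinearMap.liftBaseChange_tmul S f 1 x).trans (one_smul S _)

/-- An element of a tensor product with a finite product vanishes if its components do. -/
theorem eq_zero_of_components {R : Type u} [CommRing R] {ι : Type u} [Finite ι] {S : ι → Type u}
    [∀ i, AddCommGroup (S i)] [∀ i, Module R (S i)] {N : Type u} [AddCommGroup N] [Module R N]
    (x : (∀ i, S i) ⊗[R] N)
    (h : ∀ i, (LinearMap.proj i : (∀ i, S i) →ₗ[R] S i).rTensor N x = 0) : x = 0 := by
  classical
  letI := Fintype.ofFinite ι
  have key : ∀ z : (∀ i, S i) ⊗[R] N, z =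
      ∑ i, (LinearMap.single R S i).rTensor N ((LinearMap.proj i : (∀ i, S i) →ₗ[R] S i).rTensor N z) :=
    fun z => by
      induction z using TensorProduct.induction_on with
      | zero => simp
      | add a b ha hb =>
        conv_lhs => rw [ha, hb]
        rw [← Finset.sum_add_distrib]
        simp only [map_add]
      | tmul s n =>
        simp only [LinearMap.rTensor_tmul, ← sum_tmul, LinearMap.proj_apply, LinearMap.coe_single,
          Finset.univ_sum_single]
  rw [key x]
  exact Finset.sum_eq_zero fun i _ => by rw [h i, map_zero]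

theorem bijective_of_components {R : Type u} [CommRing R] {ι : Type u} [Finite ι] {S : ι → Type u}
    [∀ i, AddCommGroup (S i)] [∀ i, Module R (S i)] [Module.FaithfullyFlat R (∀ i, S i)]
    {M N : Type u} [AddCommGroup M] [AddCommGroup N] [Module R M] [Module R N] (φ : M →ₗ[R] N)
    (h : ∀ i, Function.Bijective (φ.lTensor (S i))) : Function.Bijective φ := by
  classical
  letI := Fintype.ofFinite ι
  have comm : ∀ i (x : (∀ i, S i) ⊗[R] M),
      (LinearMap.proj i : (∀ i, S i) →ₗ[R] S i).rTensor N (φ.lTensor _ x) =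
        φ.lTensor (S i) ((LinearMap.proj i : (∀ i, S i) →ₗ[R] S i).rTensor M x) := fun i x => by
    induction x using TensorProduct.induction_on with
    | zero => simp
    | add a b ha hb => simp only [map_add, ha, hb]
    | tmul s m => simp
  rw [← Module.FaithfullyFlat.lTensor_bijective_iff_bijective R (∀ i, S i)]
  refine ⟨(injective_iff_map_eq_zero _).2 fun x hx => eq_zero_of_components x fun i =>
    (h i).1 (by rw [← comm, hx, map_zero, map_zero]), fun y => ?_⟩
  choose z hz using fun i => (h i).2 ((LinearMap.proj i : (∀ i, S i) →ₗ[R] S i).rTensor N y)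
  refine ⟨∑ i, (LinearMap.single R S i).rTensor M (z i), sub_eq_zero.1 (eq_zero_of_components _ fun j => ?_)⟩
  rw [map_sub, comm, map_sum, Finset.sum_eq_single j (fun i _ hij => ?_)
    (fun hj => absurd (Finset.mem_univ _) hj), sub_eq_zero]
  · rw [← LinearMap.rTensor_comp_apply,
      show (LinearMap.proj j).comp (LinearMap.single R S j) = LinearMap.id from
        LinearMap.ext fun z => by simp, LinearMap.rTensor_id, LinearMap.id_apply]
    exact hz j
  · rw [← LinearMap.rTensor_comp_apply,
      show (LinearMap.proj j).comp (LinearMap.single R S i) = 0 from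
        LinearMap.ext fun _ => Pi.single_eq_of_ne (Ne.symm hij) _, LinearMap.rTensor_zero,
      LinearMap.zero_apply]

variable {X : RSpace.{u}}

/-- Sections over a set, as global sections of the restricted space. -/
def sectEquiv (U : Set X.pt) : X.sectRing U ≃+* (X.restrict U).sectRing Set.univ where
  toFun s := ⟨fun q => s.1 q.1, fun q q' h => s.2 q.1 q'.1 h⟩
  invFun s := ⟨fun q => s.1 ⟨q, trivial⟩, fun q q' h => s.2 ⟨q, trivial⟩ ⟨q', trivial⟩ h⟩
  left_inv _ := rfl
  right_inv _ := rfl
  map_mul' _ _ := rfl
  map_add' _ _ := rfl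

/-- Sections of a module over a set, as global sections of the restricted module. -/
def msectEquiv (M : OMod X) (U : Set X.pt) : M.sect U ≃+ (M.restrict U).sect Set.univ where
  toFun s := ⟨fun q => s.1 q.1, fun q q' h => s.2 q.1 q'.1 h⟩
  invFun s := ⟨fun q => s.1 ⟨q, trivial⟩, fun q q' h => s.2 ⟨q, trivial⟩ ⟨q', trivial⟩ h⟩
  left_inv _ := rfl
  right_inv _ := rfl
  map_add' _ _ := rfl

theorem isBC_eval {U : Set X.pt} (hUa : (X.restrict U).IsAffine) (M : OMod X) (hM : M.IsQcoh)
    (q : U) : IsBCAlong (X.evalRing U q) (M.evalMod U q) :=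
  isBCAlong_ringEquiv (sectEquiv U) _ _ (fun _ => rfl) (msectEquiv M U) (fun _ _ => rfl) _ _
    (fun _ => rfl) (hUa.2.2.1 (M.restrict U) (fun p p' h => hM p.1 p'.1 h) q)

theorem isBCAlong_resSect (x : X.pt) {U : Set X.pt} (hU : U ⊆ X.up x)
    (hUa : (X.restrict U).IsAffine)
    (hff : Module.FaithfullyFlat (X.sectRing U) ((q : ↥U) → X.ring q.1)) (M : OMod X) (hM : M.IsQcoh) :
    IsBCAlong (X.resSect x U hU) (M.resSect x U hU) := by
  letI : Algebra (X.ring x) (X.sectRing U) := (X.resSect x U hU).toAlgebra
  letI : Module (X.ring x) (M.sect U) := Module.compHom _ (X.resSect x U hU)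
  haveI : IsScalarTower (X.ring x) (X.sectRing U) (M.sect U) :=
    IsScalarTower.of_algebraMap_smul fun _ _ => rfl
  let f : M.carrier x →ₗ[X.ring x] M.sect U :=
    { toFun := M.resSect x U hU
      map_add' := (M.resSect x U hU).map_add
      map_smul' := (M.resSect x U hU).map_smulₛₗ }
  let φ : X.sectRing U ⊗[X.ring x] M.carrier x →ₗ[X.sectRing U] M.sect U := f.liftBaseChange _
  letI : ∀ q : U, Algebra (X.sectRing U) (X.ring q.1) := fun q => (X.evalRing U q).toAlgebra
  haveI : Module.FaithfullyFlat (X.sectRing U) (∀ q : U, X.ring q.1) := hff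
  have hφ : Function.Bijective φ := by
    refine bijective_of_components (S := fun q : U => X.ring q.1) φ fun q => ?_
    letI : Algebra (X.ring x) (X.ring q.1) := (X.res (hU q.2)).toAlgebra
    haveI : IsScalarTower (X.ring x) (X.sectRing U) (X.ring q.1) :=
      IsScalarTower.of_algebraMap_eq fun _ => rfl
    letI : Module (X.sectRing U) (M.carrier q.1) := Module.compHom _ (X.evalRing U q)
    letI : Module (X.ring x) (M.carrier q.1) := Module.compHom _ (X.res (hU q.2))
    haveI : IsScalarTower (X.sectRing U) (X.ring q.1) (M.carrier q.1) :=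
      IsScalarTower.of_algebraMap_smul fun _ _ => rfl
    haveI : IsScalarTower (X.ring x) (X.ring q.1) (M.carrier q.1) :=
      IsScalarTower.of_algebraMap_smul fun _ _ => rfl
    have he : IsBCAlong (X.evalRing U q) (M.evalMod U q) := isBC_eval hUa M hM q
    have hq : IsBCAlong (X.res (hU q.2)) (M.res (hU q.2)) := hM x q.1 (hU q.2)
    unfold IsBCAlong at he hq
    let C := AlgebraTensorModule.cancelBaseChange (X.ring x) (X.sectRing U) (X.ring q.1)
      (X.ring q.1) (M.carrier x)
    have key : ∀ t : X.ring q.1 ⊗[X.sectRing U] (X.sectRing U ⊗[X.ring x] M.carrier x),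
        he.equiv (φ.lTensor (X.ring q.1) t) = hq.equiv (C t) := fun t => by
      induction t using TensorProduct.induction_on with
      | zero => simp
      | add a b ha hb => simp only [map_add, ha, hb]
      | tmul s y =>
        induction y using TensorProduct.induction_on with
        | zero => simp
        | add a b ha hb => simp only [tmul_add, map_add] at ha hb ⊢; rw [ha, hb]
        | tmul r m =>
          rw [LinearMap.lTensor_tmul, AlgebraTensorModule.cancelBaseChange_tmul,
            IsBaseChange.equiv_tmul, IsBaseChange.equiv_tmul]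
          show s • (r.1 q • M.res (hU q.2) m) = (r.1 q * s) • M.res (hU q.2) m
          rw [smul_smul, mul_comm]
    refine ⟨fun a b hab => ?_, fun c => ?_⟩
    · exact C.injective (hq.equiv.injective (by rw [← key, ← key, hab]))
    · obtain ⟨d, hd⟩ := hq.equiv.surjective (he.equiv c)
      exact ⟨C.symm d, he.equiv.injective (by rw [key, C.apply_symm_apply, hd])⟩
  exact IsBaseChange.of_equiv (LinearEquiv.ofBijective φ hφ) fun m =>
    (LinearMap.liftBaseChange_tmul _ f 1 m).trans (one_smul _ _)

end Groth.Agent.SchFinLib
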