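import Groth.Agent.SchFinLib.Global
import Mathlib.RingTheory.Finiteness.FinitePresentationLocal
import Mathlib.RingTheory.Spectrum.Prime.RingHom

/-!
# Properties of algebras, read on sections over an affine set of points
-/

set_option autoImplicit false
set_option linter.style.haveILetI false

open SchFin TensorProduct

universe u

namespace Groth.Agent.SchFinLib

/-- A factor of a finite product is a localisation at an idempotent. -/
theorem isLocalizationAway_eval {ι : Type u} [DecidableEq ι] [Finite ι] (S : ι → Type u)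
    [∀ i, CommRing (S i)] (i : ι) :
    letI : Algebra (∀ j, S j) (S i) := (Pi.evalRingHom S i).toAlgebra
    IsLocalization.Away (Pi.single i (1 : S i) : ∀ j, S j) (S i) := by
  letI : Algebra (∀ j, S j) (S i) := (Pi.evalRingHom S i).toAlgebra
  refine IsLocalization.away_of_isIdempotentElem (funext fun j => ?_) (RingHom.ker_evalRingHom S i)
    fun a => ⟨Function.update (0 : ∀ j, S j) i a, Function.update_self ..⟩
  by_cases h : j = i
  · subst h; simp
  · simp [Pi.single_eq_of_ne h]

theorem flat_pi_of_finite {R : Type u} [CommRing R] {ι : Type u} [Finite ι] (M : ι → Type u)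
    [∀ i, AddCommGroup (M i)] [∀ i, Module R (M i)] [∀ i, Module.Flat R (M i)] :
    Module.Flat R (∀ i, M i) := by
  classical
  letI := Fintype.ofFinite ι
  exact Module.Flat.of_linearEquiv (DirectSum.linearEquivFunOnFintype R ι M).symm

section Split

attribute [-instance] Pi.instAlgebraForall Pi.module' Pi.smul' Pi.mulAction'

variable {Γ B : Type u} [CommRing Γ] [CommRing B] [Algebra Γ B] {ι : Type u} [Finite ι]
  (S A : ι → Type u) [∀ i, CommRing (S i)] [∀ i, CommRing (A i)] [∀ i, Algebra Γ (S i)]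
  [∀ i, Algebra (S i) (A i)] [Module.FaithfullyFlat Γ (∀ i, S i)]
  (ψ : ∀ i, S i ⊗[Γ] B ≃ₐ[S i] A i)

include ψ

/-- The components, with their structure over the product. -/
theorem exists_split : ∃ (_ : ∀ i, Algebra (∀ j, S j) (A i)),
    (∀ i, algebraMap (∀ j, S j) (A i) = (algebraMap (S i) (A i)).comp (Pi.evalRingHom S i)) ∧
    Nonempty ((∀ j, S j) ⊗[Γ] B ≃ₐ[∀ j, S j] ∀ i, A i) := by
  classical
  letI := Fintype.ofFinite ι
  letI algA : ∀ i, Algebra (∀ j, S j) (A i) := fun i =>
    ((algebraMap (S i) (A i)).comp (Pi.evalRingHom S i)).toAlgebra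
  refine ⟨algA, fun i => rfl, ?_⟩
  letI : ∀ i, Algebra Γ (A i) := fun i => ((algebraMap (S i) (A i)).comp (algebraMap Γ (S i))).toAlgebra
  haveI : ∀ i, IsScalarTower Γ (S i) (A i) := fun i => IsScalarTower.of_algebraMap_eq fun _ => rfl
  haveI : IsScalarTower Γ (∀ j, S j) (∀ i, A i) := IsScalarTower.of_algebraMap_eq fun _ => rfl
  let β : B →ₐ[Γ] ∀ i, A i := AlgHom.pi fun i =>
    ((ψ i).toAlgHom.restrictScalars Γ).comp (Algebra.TensorProduct.includeRight : B →ₐ[Γ] S i ⊗[Γ] B)
  let Θ : (∀ j, S j) ⊗[Γ] B →ₐ[∀ j, S j] ∀ i, A i :=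
    Algebra.TensorProduct.lift (Algebra.ofId (∀ j, S j) (∀ i, A i)) β fun _ _ => Commute.all _ _
  have hΘ : ∀ i x, Θ x i = ψ i ((LinearMap.proj i : (∀ j, S j) →ₗ[Γ] S i).rTensor B x) := fun i x => by
    induction x using TensorProduct.induction_on with
    | zero => simp
    | add a b ha hb => simp only [map_add, Pi.add_apply, ha, hb]
    | tmul s b =>
      rw [LinearMap.rTensor_tmul, LinearMap.proj_apply,
        show s i ⊗ₜ[Γ] b = s i • ((1 : S i) ⊗ₜ[Γ] b) by rw [TensorProduct.smul_tmul', smul_eq_mul, mul_one],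
        map_smul, Algebra.smul_def]
      simp only [Θ, β, Algebra.TensorProduct.lift_tmul, Pi.mul_apply, Algebra.ofId_apply]
      rfl
  refine ⟨AlgEquiv.ofBijective Θ ⟨(injective_iff_map_eq_zero Θ).2 fun x hx =>
    eq_zero_of_components x fun i => (ψ i).injective (by rw [← hΘ, hx, map_zero]; rfl), fun c => ?_⟩⟩
  refine ⟨∑ i, (LinearMap.single Γ S i).rTensor B ((ψ i).symm (c i)), funext fun j => ?_⟩
  rw [hΘ, map_sum, map_sum, Finset.sum_eq_single j (fun i _ hij => ?_)
    (fun hj => absurd (Finset.mem_univ _) hj)]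
  · rw [← LinearMap.rTensor_comp_apply,
      show (LinearMap.proj j).comp (LinearMap.single Γ S j) = LinearMap.id from
        LinearMap.ext fun z => by simp, LinearMap.rTensor_id, LinearMap.id_apply,
      AlgEquiv.apply_symm_apply]
  · rw [← LinearMap.rTensor_comp_apply,
      show (LinearMap.proj j).comp (LinearMap.single Γ S i) = 0 from
        LinearMap.ext fun _ => Pi.single_eq_of_ne (Ne.symm hij) _, LinearMap.rTensor_zero,
      LinearMap.zero_apply, map_zero]

theorem finite_of_components (h : ∀ i, Module.Finite (S i) (A i)) : Module.Finite Γ B := by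
  classical
  obtain ⟨algA, hA, ⟨Θ⟩⟩ := exists_split S A ψ
  haveI : ∀ i, Module.Finite (∀ j, S j) (A i) := fun i => by
    letI : Algebra (∀ j, S j) (S i) := (Pi.evalRingHom S i).toAlgebra
    haveI : IsScalarTower (∀ j, S j) (S i) (A i) :=
      IsScalarTower.of_algebraMap_eq fun x => congr($(hA i) x)
    haveI : Module.Finite (∀ j, S j) (S i) := Module.Finite.of_surjective
      (Algebra.linearMap (∀ j, S j) (S i)) fun a => ⟨Pi.single i a, by
        simp [RingHom.algebraMap_toAlgebra]⟩
    haveI := h i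
    exact Module.Finite.trans (S i) (A i)
  haveI : Module.Finite (∀ j, S j) ((∀ j, S j) ⊗[Γ] B) := Module.Finite.equiv Θ.symm.toLinearEquiv
  exact Module.Finite.of_finite_tensorProduct_of_faithfullyFlat (∀ j, S j)

theorem etale_of_components (h : ∀ i, Algebra.Etale (S i) (A i)) : Algebra.Etale Γ B := by
  classical
  obtain ⟨algA, hA, ⟨Θ⟩⟩ := exists_split S A ψ
  haveI : ∀ i, Algebra.Etale (∀ j, S j) (A i) := fun i => by
    letI : Algebra (∀ j, S j) (S i) := (Pi.evalRingHom S i).toAlgebra
    haveI : IsScalarTower (∀ j, S j) (S i) (A i) :=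
      IsScalarTower.of_algebraMap_eq fun x => congr($(hA i) x)
    haveI := isLocalizationAway_eval S i
    haveI : Algebra.Etale (∀ j, S j) (S i) :=
      Algebra.Etale.of_isLocalizationAway (Pi.single i (1 : S i) : ∀ j, S j)
    haveI := h i
    exact Algebra.Etale.comp (∀ j, S j) (S i) (A i)
  haveI : Algebra.Etale (∀ j, S j) ((∀ j, S j) ⊗[Γ] B) := Algebra.Etale.of_equiv Θ.symm
  exact Algebra.Etale.of_etale_tensorProduct_of_faithfullyFlat (∀ j, S j)

theorem flat_of_components (h : ∀ i, Module.Flat (S i) (A i)) : Module.Flat Γ B := by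
  classical
  obtain ⟨algA, hA, ⟨Θ⟩⟩ := exists_split S A ψ
  haveI : ∀ i, Module.Flat (∀ j, S j) (A i) := fun i => by
    letI : Algebra (∀ j, S j) (S i) := (Pi.evalRingHom S i).toAlgebra
    haveI : IsScalarTower (∀ j, S j) (S i) (A i) :=
      IsScalarTower.of_algebraMap_eq fun x => congr($(hA i) x)
    haveI := isLocalizationAway_eval S i
    haveI : Module.Flat (∀ j, S j) (S i) :=
      IsLocalization.flat (S i) (Submonoid.powers (Pi.single i (1 : S i) : ∀ j, S j))
    haveI := h i
    exact Module.Flat.trans (∀ j, S j) (S i) (A i)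
  haveI : Module.Flat (∀ j, S j) (∀ i, A i) := flat_pi_of_finite A
  haveI : Module.Flat (∀ j, S j) ((∀ j, S j) ⊗[Γ] B) := Module.Flat.of_linearEquiv Θ.toLinearEquiv
  exact Module.Flat.of_flat_tensorProduct _ _ (∀ j, S j)

theorem faithfullyFlat_of_components (h : ∀ i, Module.FaithfullyFlat (S i) (A i)) :
    Module.FaithfullyFlat Γ B := by
  haveI := flat_of_components S A ψ fun i => (h i).toFlat
  refine Module.FaithfullyFlat.of_comap_surjective fun P => ?_
  obtain ⟨P', hP'⟩ := PrimeSpectrum.comap_surjective_of_faithfullyFlat (B := ∀ i, S i) P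
  obtain ⟨i, Q, rfl⟩ := PrimeSpectrum.exists_comap_evalRingHom_eq P'
  haveI := h i
  obtain ⟨Q', rfl⟩ := PrimeSpectrum.comap_surjective_of_faithfullyFlat (B := A i) Q
  refine ⟨PrimeSpectrum.comap ((ψ i).toAlgHom.toRingHom.comp
    (Algebra.TensorProduct.includeRight : B →ₐ[Γ] S i ⊗[Γ] B).toRingHom) Q', ?_⟩
  rw [← hP', ← PrimeSpectrum.comap_comp_apply, ← PrimeSpectrum.comap_comp_apply,
    ← PrimeSpectrum.comap_comp_apply]
  congr 1
  refine RingHom.ext fun r => ?_
  show ψ i ((1 : S i) ⊗ₜ[Γ] algebraMap Γ B r) = algebraMap (S i) (A i) (algebraMap Γ (∀ j, S j) r i)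
  rw [← Algebra.TensorProduct.tmul_one_eq_one_tmul]
  exact (ψ i).commutes _

end Split

/-- The value of an algebra at a point is the base change of its sections. -/
theorem exists_evalAlgEquiv {X : RSpace.{u}} (A : Alg X) (hA : A.IsQcoh) {U : Set X.pt}
    (hUa : (X.restrict U).IsAffine) (q : U) :
    letI := (A.sectMap U).toAlgebra
    letI := (X.evalRing U q).toAlgebra
    Nonempty (X.ring q.1 ⊗[X.sectRing U] A.total.sectRing U ≃ₐ[X.ring q.1] A.carrier q.1) := by
  letI := (A.sectMap U).toAlgebra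
  letI := (X.evalRing U q).toAlgebra
  letI : Algebra (X.sectRing U) (A.carrier q.1) :=
    Algebra.compHom (A.carrier q.1) (X.evalRing U q)
  haveI : IsScalarTower (X.sectRing U) (X.ring q.1) (A.carrier q.1) :=
    IsScalarTower.of_algebraMap_eq fun _ => rfl
  let f' : A.total.sectRing U →+* A.carrier q.1 := A.total.evalRing U q
  let F : A.total.sectRing U →ₛₗ[X.evalRing U q] A.carrier q.1 :=
    { toFun := f'
      map_add' := map_add f'
      map_smul' := fun r s => by
        show algebraMap (X.ring q.1) (A.carrier q.1) (r.1 q) * f' s = r.1 q • f' s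
        rw [Algebra.smul_def] }
  let eM : A.total.sectRing U ≃+ (A.toMod.restrict U).sect Set.univ :=
    { toFun := fun s => ⟨fun p => s.1 p.1, fun p p' h => s.2 p.1 p'.1 h⟩
      invFun := fun s => ⟨fun p => s.1 ⟨p, trivial⟩, fun p p' h => s.2 ⟨p, trivial⟩ ⟨p', trivial⟩ h⟩
      left_inv := fun _ => rfl
      right_inv := fun _ => rfl
      map_add' := fun _ _ => rfl }
  have hF : IsBCAlong (X.evalRing U q) F :=
    isBCAlong_ringEquiv (sectEquiv U) _ _ (fun _ => rfl) eM
      (fun r s => Subtype.ext (funext fun p =>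
        (@Algebra.smul_def (X.ring p.1.1) (A.carrier p.1.1) _ _ (A.instAlg p.1.1) (r.1 p.1) (s.1 p.1)).symm))
      _ F (fun _ => rfl) (hUa.2.2.1 (A.toMod.restrict U) (fun p p' h => hA p.1 p'.1 h) q)
  let φ : A.total.sectRing U →ₐ[X.sectRing U] A.carrier q.1 :=
    { f' with commutes' := fun _ => rfl }
  let Ψ : X.ring q.1 ⊗[X.sectRing U] A.total.sectRing U →ₐ[X.ring q.1] A.carrier q.1 :=
    Algebra.TensorProduct.lift (Algebra.ofId _ _) φ fun _ _ => Commute.all _ _
  refine ⟨AlgEquiv.ofBijective Ψ ?_⟩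
  unfold IsBCAlong at hF
  convert hF.equiv.bijective using 1
  funext x
  induction x using TensorProduct.induction_on with
  | zero => simp
  | add a b ha hb => simp only [map_add, ha, hb]
  | tmul s a =>
    rw [IsBaseChange.equiv_tmul]
    simp only [Ψ, Algebra.TensorProduct.lift_tmul, Algebra.ofId_apply]
    rw [Algebra.smul_def]
    rfl

end Groth.Agent.SchFinLib
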