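import Groth.Agent.SchFinLib.Cat

/-!
# Pushouts of étale covers
-/

set_option autoImplicit false
set_option linter.style.haveILetI false

open SchFin CategoryTheory CategoryTheory.Limits TensorProduct

universe u

namespace Groth.Agent.SchFinLib

theorem isPO_tensor (A B C : Type u) [CommRing A] [CommRing B] [CommRing C] [Algebra A B]
    [Algebra A C] :
    IsPO (algebraMap A B) (algebraMap A C)
      (Algebra.TensorProduct.includeRight : C →ₐ[A] B ⊗[A] C).toRingHom
      (Algebra.TensorProduct.includeLeftRingHom : B →+* B ⊗[A] C) where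
  comm := RingHom.ext fun a => (Algebra.TensorProduct.tmul_one_eq_one_tmul (A := B) (B := C) a).symm
  ext a b h1 h2 := RingHom.ext fun x => by
    induction x using TensorProduct.induction_on with
    | zero => simp
    | add p q hp hq => simp only [map_add, hp, hq]
    | tmul s t =>
      rw [show s ⊗ₜ[A] t = (s ⊗ₜ[A] (1 : C)) * ((1 : B) ⊗ₜ[A] t) by simp, map_mul, map_mul]
      exact congr_arg₂ (· * ·) congr($h2 s) congr($h1 t)
  exists_lift {T} _ s a e := by
    letI : Algebra A T := (s.comp (algebraMap A B)).toAlgebra
    let sA : B →ₐ[A] T := { s with commutes' := fun _ => rfl }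
    let aA : C →ₐ[A] T := { a with commutes' := fun r => congr($e r) }
    exact ⟨(Algebra.TensorProduct.lift sA aA fun _ _ => Commute.all _ _).toRingHom,
      RingHom.ext fun x => by simp [sA], RingHom.ext fun x => by simp [aA]⟩

variable {X : RSpace.{u}} {A B C : FEt X} (f : A ⟶ B) (g : A ⟶ C)

/-- Pointwise data of a pushout. -/
structure PushData (p : X.pt) where
  T : Type u
  [cr : CommRing T]
  [alg : Algebra (X.ring p) T]
  iB : B.obj.carrier p →ₐ[X.ring p] T
  iC : C.obj.carrier p →ₐ[X.ring p] T
  isPO : IsPO (f.hom.app p).toRingHom (g.hom.app p).toRingHom iC.toRingHom iB.toRingHom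
  fin : Module.Finite (X.ring p) T
  et : Algebra.Etale (X.ring p) T

attribute [instance] PushData.cr PushData.alg

theorem nonempty_pushData (p : X.pt) : Nonempty (PushData f g p) := by
  haveI := (A.property.2 p).1
  haveI := (A.property.2 p).2
  haveI := (B.property.2 p).1
  haveI := (B.property.2 p).2
  haveI := (C.property.2 p).1
  haveI := (C.property.2 p).2
  letI : Algebra (A.obj.carrier p) (B.obj.carrier p) := (f.hom.app p).toRingHom.toAlgebra
  letI : Algebra (A.obj.carrier p) (C.obj.carrier p) := (g.hom.app p).toRingHom.toAlgebra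
  haveI : IsScalarTower (X.ring p) (A.obj.carrier p) (B.obj.carrier p) :=
    IsScalarTower.of_algebraMap_eq fun r => ((f.hom.app p).commutes r).symm
  haveI : IsScalarTower (X.ring p) (A.obj.carrier p) (C.obj.carrier p) :=
    IsScalarTower.of_algebraMap_eq fun r => ((g.hom.app p).commutes r).symm
  obtain ⟨_, _, -⟩ := finite_etale_of_tower (X.ring p) (A := A.obj.carrier p) (B := C.obj.carrier p)
  let T := B.obj.carrier p ⊗[A.obj.carrier p] C.obj.carrier p
  haveI : Module.Finite (X.ring p) T := Module.Finite.trans (B.obj.carrier p) T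
  haveI : Algebra.Etale (X.ring p) T := Algebra.Etale.comp (X.ring p) (B.obj.carrier p) T
  exact ⟨⟨T, (Algebra.TensorProduct.includeLeft : B.obj.carrier p →ₐ[X.ring p] T),
    (Algebra.TensorProduct.includeRight : C.obj.carrier p →ₐ[A.obj.carrier p] T).restrictScalars (X.ring p),
    isPO_tensor _ _ _, inferInstance, inferInstance⟩⟩

/-- The chosen pointwise pushout. -/
noncomputable def pd (p : X.pt) : PushData f g p := (nonempty_pushData f g p).some

theorem exists_pushRes {p q : X.pt} (h : p ≤ q) :
    ∃ r : (pd f g p).T →+* (pd f g q).T,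
      r.comp (pd f g p).iB.toRingHom = (pd f g q).iB.toRingHom.comp (B.obj.res h) ∧
      r.comp (pd f g p).iC.toRingHom = (pd f g q).iC.toRingHom.comp (C.obj.res h) :=
  (pd f g p).isPO.exists_lift _ _ (RingHom.ext fun a => by
    show (pd f g q).iC (C.obj.res h (g.hom.app p a)) = (pd f g q).iB (B.obj.res h (f.hom.app p a))
    rw [← app_res g.hom h, ← app_res f.hom h]
    exact congr($((pd f g q).isPO.comm) (A.obj.res h a)))

/-- Restriction of the pushout. -/
noncomputable def pushRes {p q : X.pt} (h : p ≤ q) : (pd f g p).T →+* (pd f g q).T :=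
  (exists_pushRes f g h).choose

theorem pushRes_iB {p q : X.pt} (h : p ≤ q) (b : B.obj.carrier p) :
    pushRes f g h ((pd f g p).iB b) = (pd f g q).iB (B.obj.res h b) :=
  congr($((exists_pushRes f g h).choose_spec.1) b)

theorem pushRes_iC {p q : X.pt} (h : p ≤ q) (c : C.obj.carrier p) :
    pushRes f g h ((pd f g p).iC c) = (pd f g q).iC (C.obj.res h c) :=
  congr($((exists_pushRes f g h).choose_spec.2) c)

/-- The pushout algebra. -/
noncomputable def pushAlg : Alg X where
  carrier p := (pd f g p).T
  res h := pushRes f g h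
  res_algebraMap {p q} h a := by
    rw [← (pd f g p).iB.commutes a, pushRes_iB, B.obj.res_algebraMap, (pd f g q).iB.commutes]
  res_self p x := by
    have := (pd f g p).isPO.ext (pushRes f g (le_refl p)) (RingHom.id _)
      (RingHom.ext fun c => by
        show pushRes f g (le_refl p) ((pd f g p).iC c) = _
        rw [pushRes_iC, C.obj.res_self]; rfl)
      (RingHom.ext fun b => by
        show pushRes f g (le_refl p) ((pd f g p).iB b) = _
        rw [pushRes_iB, B.obj.res_self]; rfl)
    exact congr($this x)
  res_comp {p q s} h h' x := by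
    have := (pd f g p).isPO.ext ((pushRes f g h').comp (pushRes f g h)) (pushRes f g (h.trans h'))
      (RingHom.ext fun c => by
        show pushRes f g h' (pushRes f g h ((pd f g p).iC c)) = pushRes f g _ ((pd f g p).iC c)
        rw [pushRes_iC, pushRes_iC, pushRes_iC, C.obj.res_comp])
      (RingHom.ext fun b => by
        show pushRes f g h' (pushRes f g h ((pd f g p).iB b)) = pushRes f g _ ((pd f g p).iB b)
        rw [pushRes_iB, pushRes_iB, pushRes_iB, B.obj.res_comp])
    exact congr($this x)

theorem isQcoh_pushAlg : (pushAlg f g).IsQcoh := (isQcoh_iff _).2 fun p q h => by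
  refine ⟨RingHom.ext fun r => (pushAlg f g).res_algebraMap h r, fun {T} _ a b h1 h2 => ?_,
    fun {T} _ s a hsa => ?_⟩
  · refine (pd f g q).isPO.ext a b ?_ ?_
    · refine (isPO_of_fet C h).ext _ _ (RingHom.ext fun c => ?_) (RingHom.ext fun r => ?_)
      · show a ((pd f g q).iC (C.obj.res h c)) = b ((pd f g q).iC (C.obj.res h c))
        rw [← pushRes_iC]
        exact congr($h1 ((pd f g p).iC c))
      · show a ((pd f g q).iC (algebraMap _ _ r)) = b ((pd f g q).iC (algebraMap _ _ r))
        rw [(pd f g q).iC.commutes]
        exact congr($h2 r)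
    · refine (isPO_of_fet B h).ext _ _ (RingHom.ext fun c => ?_) (RingHom.ext fun r => ?_)
      · show a ((pd f g q).iB (B.obj.res h c)) = b ((pd f g q).iB (B.obj.res h c))
        rw [← pushRes_iB]
        exact congr($h1 ((pd f g p).iB c))
      · show a ((pd f g q).iB (algebraMap _ _ r)) = b ((pd f g q).iB (algebraMap _ _ r))
        rw [(pd f g q).iB.commutes]
        exact congr($h2 r)
  · obtain ⟨kB, kB1, kB2⟩ := (isPO_of_fet B h).exists_lift s (a.comp (pd f g p).iB.toRingHom)
      (RingHom.ext fun r => (congrArg a ((pd f g p).iB.commutes r)).trans congr($hsa r))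
    obtain ⟨kC, kC1, kC2⟩ := (isPO_of_fet C h).exists_lift s (a.comp (pd f g p).iC.toRingHom)
      (RingHom.ext fun r => (congrArg a ((pd f g p).iC.commutes r)).trans congr($hsa r))
    obtain ⟨k, k1, k2⟩ := (pd f g q).isPO.exists_lift kB kC
      ((isPO_of_fet A h).ext _ _ (RingHom.ext fun x => by
          show kC (g.hom.app q (A.obj.res h x)) = kB (f.hom.app q (A.obj.res h x))
          rw [app_res g.hom h, app_res f.hom h]
          exact (congr($kC2 (g.hom.app p x))).trans ((congrArg a congr($((pd f g p).isPO.comm) x)).trans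
            (congr($kB2 (f.hom.app p x))).symm))
        (RingHom.ext fun r => by
          show kC (g.hom.app q (algebraMap _ _ r)) = kB (f.hom.app q (algebraMap _ _ r))
          rw [(g.hom.app q).commutes, (f.hom.app q).commutes]
          exact congr($kC1 r).trans congr($kB1 r).symm))
    refine ⟨k, RingHom.ext fun r => ?_, (pd f g p).isPO.ext _ _ (RingHom.ext fun c => ?_)
      (RingHom.ext fun b => ?_)⟩
    · show k (algebraMap (X.ring q) (pd f g q).T r) = s r
      rw [← (pd f g q).iB.commutes r]
      exact (congr($k1 _)).trans congr($kB1 r)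
    · show k (pushRes f g h ((pd f g p).iC c)) = a ((pd f g p).iC c)
      rw [pushRes_iC]
      exact (congr($k2 _)).trans congr($kC2 c)
    · show k (pushRes f g h ((pd f g p).iB b)) = a ((pd f g p).iB b)
      rw [pushRes_iB]
      exact (congr($k1 _)).trans congr($kB2 b)

/-- The pushout cover. -/
noncomputable def pushFEt : FEt X :=
  ⟨pushAlg f g, isQcoh_pushAlg f g, fun p => ⟨(pd f g p).fin, (pd f g p).et⟩⟩

noncomputable def pushInl : B ⟶ pushFEt f g :=
  ObjectProperty.homMk ⟨fun p => (pd f g p).iB, fun h b => pushRes_iB f g h b⟩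

noncomputable def pushInr : C ⟶ pushFEt f g :=
  ObjectProperty.homMk ⟨fun p => (pd f g p).iC, fun h b => pushRes_iC f g h b⟩

theorem push_comm : f ≫ pushInl f g = g ≫ pushInr f g :=
  hom_eq fun p a => (congr($((pd f g p).isPO.comm) a)).symm

theorem exists_pushDesc (s : PushoutCocone f g) (p : X.pt) :
    ∃ k : (pd f g p).T →ₐ[X.ring p] s.pt.obj.carrier p,
      (∀ b, k ((pd f g p).iB b) = s.inl.hom.app p b) ∧
      ∀ c, k ((pd f g p).iC c) = s.inr.hom.app p c := by
  obtain ⟨k, k1, k2⟩ := (pd f g p).isPO.exists_lift (s.inl.hom.app p).toRingHom (s.inr.hom.app p).toRingHom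
    (RingHom.ext fun a => (congr(($(s.condition)).hom.app p a)).symm)
  have hc : ∀ r, k (algebraMap _ _ r) = algebraMap (X.ring p) (s.pt.obj.carrier p) r := fun r => by
    rw [← (pd f g p).iB.commutes r]
    exact (congr($k1 _)).trans ((s.inl.hom.app p).commutes r)
  exact ⟨{ k with commutes' := hc },
    fun b => congr($k1 b), fun c => congr($k2 c)⟩

noncomputable def pushIsColimit : IsColimit (PushoutCocone.mk _ _ (push_comm f g)) :=
  PushoutCocone.IsColimit.mk (push_comm f g)
    (fun s => ObjectProperty.homMk ⟨fun p => (exists_pushDesc f g s p).choose, fun {p q} h x => by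
      have := (pd f g p).isPO.ext
        ((s.pt.obj.res h).comp (exists_pushDesc f g s p).choose.toRingHom)
        ((exists_pushDesc f g s q).choose.toRingHom.comp (pushRes f g h))
        (RingHom.ext fun c => by
          show s.pt.obj.res h ((exists_pushDesc f g s p).choose ((pd f g p).iC c)) =
            (exists_pushDesc f g s q).choose (pushRes f g h ((pd f g p).iC c))
          rw [(exists_pushDesc f g s p).choose_spec.2, pushRes_iC, (exists_pushDesc f g s q).choose_spec.2]
          exact s.inr.hom.compat h c)
        (RingHom.ext fun b => by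
          show s.pt.obj.res h ((exists_pushDesc f g s p).choose ((pd f g p).iB b)) =
            (exists_pushDesc f g s q).choose (pushRes f g h ((pd f g p).iB b))
          rw [(exists_pushDesc f g s p).choose_spec.1, pushRes_iB, (exists_pushDesc f g s q).choose_spec.1]
          exact s.inl.hom.compat h b)
      exact congr($this x)⟩)
    (fun s => hom_eq fun p b => (exists_pushDesc f g s p).choose_spec.1 b)
    (fun s => hom_eq fun p c => (exists_pushDesc f g s p).choose_spec.2 c)
    fun s m h1 h2 => hom_eq fun p x => by
      have := (pd f g p).isPO.ext (m.hom.app p).toRingHom (exists_pushDesc f g s p).choose.toRingHom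
        (RingHom.ext fun c => (congr(($h2).hom.app p c)).trans
          ((exists_pushDesc f g s p).choose_spec.2 c).symm)
        (RingHom.ext fun b => (congr(($h1).hom.app p b)).trans
          ((exists_pushDesc f g s p).choose_spec.1 b).symm)
      exact congr($this x)

theorem hasInitial_fet : HasInitial (FEt X) := (strIsInitial (X := X)).hasInitial

theorem hasPushouts_fet : HasPushouts (FEt X) := by
  haveI : ∀ {A B C : FEt X} {f : A ⟶ B} {g : A ⟶ C}, HasColimit (span f g) :=
    fun {A B C f g} => HasColimit.mk ⟨_, pushIsColimit f g⟩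
  exact hasPushouts_of_hasColimit_span _

theorem hasTerminal_fet : HasTerminal (FEt X) := (zeroIsTerminal (X := X)).hasTerminal

theorem hasBinaryProducts_fet : HasBinaryProducts (FEt X) := by
  haveI : ∀ {A B : FEt X}, HasLimit (pair A B) := fun {A B} => HasLimit.mk ⟨_, prodIsLimit A B⟩
  exact hasBinaryProducts_of_hasLimit_pair _

end Groth.Agent.SchFinLib
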