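import Groth.Agent.SchFinLib.Cat

/-!
# Factorisation of morphisms of étale covers
-/

set_option autoImplicit false
set_option linter.style.haveILetI false

open SchFin CategoryTheory CategoryTheory.Limits TensorProduct

universe u

namespace Groth.Agent.SchFinLib

variable {X : RSpace.{u}}

/-- The kernel of a base change of a map along a flat map is generated by the kernel. -/
theorem ker_le_of_isBCAlong {R S A B A' B' : Type u} [CommRing R] [CommRing S] [CommRing A]
    [CommRing B] [CommRing A'] [CommRing B'] [Algebra R A] [Algebra R B] [Algebra S A'] [Algebra S B']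
    {g : R →+* S} (hg : g.Flat) (rA : A →+* A') (rB : B →+* B') (FA : A →ₛₗ[g] A')
    (FB : B →ₛₗ[g] B') (hFA : ∀ a, FA a = rA a) (hFB : ∀ b, FB b = rB b) (hA : IsBCAlong g FA)
    (hB : IsBCAlong g FB) (f : A →ₐ[R] B) (f' : A' →ₐ[S] B') (hf : ∀ a, f' (rA a) = rB (f a))
    (e : A) (he : RingHom.ker f = Ideal.span {e}) : RingHom.ker f' ≤ Ideal.span {rA e} := by
  letI : Algebra R S := g.toAlgebra
  letI : Module R A' := Module.compHom A' g
  letI : Module R B' := Module.compHom B' g
  haveI : IsScalarTower R S A' := IsScalarTower.of_algebraMap_smul fun _ _ => rfl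
  haveI : IsScalarTower R S B' := IsScalarTower.of_algebraMap_smul fun _ _ => rfl
  haveI : Module.Flat R S := hg
  unfold IsBCAlong at hA hB
  have key : ∀ y : S ⊗[R] A, f' (hA.equiv y) = hB.equiv (f.toLinearMap.lTensor S y) := fun y => by
    induction y using TensorProduct.induction_on with
    | zero => simp
    | add a b ha hb => simp only [map_add, ha, hb]
    | tmul s a =>
      rw [LinearMap.lTensor_tmul, IsBaseChange.equiv_tmul, IsBaseChange.equiv_tmul, map_smul]
      simp only [LinearMap.coe_mk, AddHom.coe_mk, hFA, hFB, hf, AlgHom.toLinearMap_apply]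
  have hex : Function.Exact (LinearMap.mulLeft R e) f.toLinearMap := fun a => by
    refine ⟨fun h => ?_, ?_⟩
    · obtain ⟨c, rfl⟩ := Ideal.mem_span_singleton'.1 (he.le (show a ∈ RingHom.ker f from h))
      exact ⟨c, mul_comm e c⟩
    · rintro ⟨c, rfl⟩
      exact he.ge (Ideal.mul_mem_right c _ (Ideal.mem_span_singleton_self e))
  have hspan : ∀ z : S ⊗[R] A,
      hA.equiv ((LinearMap.mulLeft R e).lTensor S z) ∈ Ideal.span {rA e} := fun z => by
    induction z using TensorProduct.induction_on with
    | zero => simp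
    | add a b ha hb => rw [map_add, map_add]; exact Ideal.add_mem _ ha hb
    | tmul s a =>
      rw [LinearMap.lTensor_tmul, IsBaseChange.equiv_tmul]
      simp only [LinearMap.coe_mk, AddHom.coe_mk, hFA, LinearMap.mulLeft_apply, map_mul,
        Algebra.smul_def]
      exact Ideal.mul_mem_left _ _ (Ideal.mul_mem_right _ _ (Ideal.mem_span_singleton_self _))
  intro x hx
  obtain ⟨y, rfl⟩ := hA.equiv.surjective x
  have h0 : f.toLinearMap.lTensor S y = 0 := hB.equiv.injective (by rw [← key, map_zero]; exact hx)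
  obtain ⟨z, rfl⟩ := ((Module.Flat.lTensor_exact S hex) y).1 h0
  exact hspan z

theorem comp_app {A B C : FEt X} (f : A ⟶ B) (g : B ⟶ C) (p : X.pt) (a : A.obj.carrier p) :
    (f ≫ g).hom.app p a = g.hom.app p (f.hom.app p a) := rfl

/-- The kernels of a morphism of étale covers are generated by compatible idempotents. -/
theorem exists_ker_idem (hX : X.IsSchematic) {A B : FEt X} (f : A ⟶ B) :
    ∃ e : ∀ p, A.obj.carrier p, (∀ p, IsIdempotentElem (e p)) ∧
      (∀ p q (h : p ≤ q), A.obj.res h (e p) = e q) ∧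
      ∀ p, RingHom.ker (f.hom.app p) = Ideal.span {e p} := by
  have key : ∀ p, ∃ e : A.obj.carrier p, IsIdempotentElem e ∧
      RingHom.ker (f.hom.app p) = Ideal.span {e} := fun p => by
    haveI := hX.1.1 p
    haveI := (A.property.2 p).1
    haveI := (A.property.2 p).2
    haveI := (B.property.2 p).1
    haveI := (B.property.2 p).2
    letI := (f.hom.app p).toRingHom.toAlgebra
    haveI : IsScalarTower (X.ring p) (A.obj.carrier p) (B.obj.carrier p) :=
      IsScalarTower.of_algebraMap_eq fun r => ((f.hom.app p).commutes r).symm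
    exact exists_idem_ker_algHom (X.ring p)
  choose e he hk using key
  refine ⟨e, he, fun p q h => eq_of_span_idem_eq ((he p).map _) (he q) ?_, hk⟩
  refine le_antisymm ?_ ?_
  · rw [← hk q, Ideal.span_singleton_le_iff_mem, RingHom.mem_ker, app_res f.hom h,
      show f.hom.app p (e p) = 0 from (hk p).ge (Ideal.mem_span_singleton_self _), map_zero]
  · rw [← hk q]
    exact ker_le_of_isBCAlong (A := A.obj.carrier p) (B := B.obj.carrier p) (A' := A.obj.carrier q)
      (B' := B.obj.carrier q) (hX.1.2 p q h) (A.obj.res h) (B.obj.res h) (A.obj.toMod.res h)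
      (B.obj.toMod.res h) (fun _ => rfl) (fun _ => rfl) (A.property.1 p q h) (B.property.1 p q h)
      (f.hom.app p) (f.hom.app q) (fun a => app_res f.hom h a) (e p) (hk p)

/-- A pointwise bijective morphism of étale covers is an isomorphism. -/
theorem isIso_of_bijective {A B : FEt X} (f : A ⟶ B)
    (hf : ∀ p, Function.Bijective (f.hom.app p)) : IsIso f :=
  ⟨⟨ObjectProperty.homMk ⟨fun p => (AlgEquiv.ofBijective (f.hom.app p) (hf p)).symm.toAlgHom,
      fun {p q} h b => (hf q).1 (by
        rw [app_res f.hom h]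
        exact (congrArg _ ((AlgEquiv.ofBijective (f.hom.app p) (hf p)).apply_symm_apply b)).trans
          ((AlgEquiv.ofBijective (f.hom.app q) (hf q)).apply_symm_apply _).symm)⟩,
    hom_eq fun p a => (AlgEquiv.ofBijective (f.hom.app p) (hf p)).symm_apply_apply a,
    hom_eq fun p a => (AlgEquiv.ofBijective (f.hom.app p) (hf p)).apply_symm_apply a⟩⟩

/-- Surjection followed by injection. -/
theorem exists_factor (hX : X.IsSchematic) {A B : FEt X} (f : A ⟶ B) :
    ∃ (Q : FEt X) (g : A ⟶ Q) (h : Q ⟶ B), g ≫ h = f ∧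
      (∀ p : X.pt, Function.Surjective (g.hom.app p)) ∧
      ∀ p : X.pt, Function.Injective (h.hom.app p) := by
  obtain ⟨e, he, hc, hk⟩ := exists_ker_idem hX f
  have hfe : ∀ p, f.hom.app p (e p) = 0 := fun p => (hk p).ge (Ideal.mem_span_singleton_self _)
  refine ⟨quotFEt A e he hc, quotπ A e he hc, quotDesc A e he hc f hfe, quotπ_desc A e he hc f hfe,
    quotπ_surjective A e he hc, fun p => (injective_iff_map_eq_zero _).2 fun x hx => ?_⟩
  obtain ⟨a, rfl⟩ := quotπ_surjective A e he hc p x
  exact Ideal.Quotient.eq_zero_iff_mem.2 ((hk p).le hx)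

/-- A surjective morphism is the projection to a direct factor. -/
theorem exists_isLimit_of_surjective (hX : X.IsSchematic) {A B : FEt X} (f : A ⟶ B)
    (hf : ∀ p : X.pt, Function.Surjective (f.hom.app p)) :
    ∃ (D : FEt X) (π : A ⟶ D), Nonempty (IsLimit (BinaryFan.mk f π)) := by
  obtain ⟨e, he, hc, hk⟩ := exists_ker_idem hX f
  let D := quotFEt A (fun p => 1 - e p) (fun p => (he p).one_sub)
    (fun p q h => by rw [map_sub, map_one, hc p q h])
  let π : A ⟶ D := quotπ A (fun p => 1 - e p) (fun p => (he p).one_sub)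
    (fun p q h => by rw [map_sub, map_one, hc p q h])
  let φ : A ⟶ prodFEt B D := (prodIsLimit B D).lift (BinaryFan.mk f π)
  have hb : ∀ p, Function.Bijective (φ.hom.app p) := fun p => by
    refine ⟨(injective_iff_map_eq_zero _).2 ?_, fun y => ?_⟩
    · change ∀ x : A.obj.carrier p, φ.hom.app p x = 0 → x = 0
      intro x hx
      obtain ⟨c, rfl⟩ := Ideal.mem_span_singleton'.1 ((hk p).le (congrArg Prod.fst hx))
      obtain ⟨d, hd⟩ : ∃ d : A.obj.carrier p, d * (1 - e p) = c * e p :=
        Ideal.mem_span_singleton'.1 (Ideal.Quotient.eq_zero_iff_mem.1 (congrArg Prod.snd hx))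
      calc c * e p = (c * e p) * e p := by rw [mul_assoc, (he p).eq]
        _ = d * ((1 - e p) * e p) := by rw [← hd, mul_assoc]
        _ = 0 := by rw [(he p).one_sub_mul_self, mul_zero]
    · obtain ⟨b, hb⟩ := hf p y.1
      obtain ⟨d, hd⟩ := quotπ_surjective A (fun p => 1 - e p) (fun p => (he p).one_sub)
        (fun p q h => by rw [map_sub, map_one, hc p q h]) p y.2
      have hfe : f.hom.app p (e p) = 0 := (hk p).ge (Ideal.mem_span_singleton_self _)
      refine ⟨b * (1 - e p) + d * e p, Prod.ext ?_ ?_⟩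
      · show f.hom.app p _ = y.1
        rw [map_add, map_mul, map_mul, map_sub, map_one, hfe, sub_zero, mul_one, mul_zero, add_zero, hb]
      · refine Eq.trans ?_ hd
        refine (Ideal.Quotient.mk_eq_mk_iff_sub_mem _ _).2 ?_
        rw [show b * (1 - e p) + d * e p - d = (b - d) * (1 - e p) by ring]
        exact Ideal.mul_mem_left _ _ (Ideal.mem_span_singleton_self _)
  haveI := isIso_of_bijective φ hb
  exact ⟨D, π, ⟨IsLimit.ofIsoLimit (prodIsLimit B D)
    (BinaryFan.ext (asIso φ).symm ((IsIso.eq_inv_comp φ).2 (hom_eq fun _ _ => rfl))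
      ((IsIso.eq_inv_comp φ).2 (hom_eq fun _ _ => rfl)))⟩⟩

theorem mono_of_injective {A B : FEt X} (f : A ⟶ B)
    (hf : ∀ p : X.pt, Function.Injective (f.hom.app p)) : Mono f :=
  ⟨fun g h e => hom_eq fun p a => hf p congr(($e).hom.app p a)⟩

theorem epi_of_surjective {A B : FEt X} (f : A ⟶ B)
    (hf : ∀ p : X.pt, Function.Surjective (f.hom.app p)) : Epi f :=
  ⟨fun g h e => hom_eq fun p b => by
    obtain ⟨a, rfl⟩ := hf p b
    exact congr(($e).hom.app p a)⟩

theorem injective_of_mono (hX : X.IsSchematic) {A B : FEt X} (f : A ⟶ B) [Mono f] (p : X.pt) :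
    Function.Injective (f.hom.app p) := by
  obtain ⟨e, he, hc, hk⟩ := exists_ker_idem hX f
  let D := quotFEt A (fun p => 1 - e p) (fun p => (he p).one_sub)
    (fun p q h => by rw [map_sub, map_one, hc p q h])
  let π : A ⟶ D := quotπ A (fun p => 1 - e p) (fun p => (he p).one_sub)
    (fun p q h => by rw [map_sub, map_one, hc p q h])
  let Q := quotFEt A e he hc
  let φ : A ⟶ prodFEt Q D := (prodIsLimit Q D).lift (BinaryFan.mk (quotπ A e he hc) π)
  have hb : ∀ p, Function.Bijective (φ.hom.app p) := fun p => by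
    refine ⟨(injective_iff_map_eq_zero _).2 ?_, fun y => ?_⟩
    · change ∀ x : A.obj.carrier p, φ.hom.app p x = 0 → x = 0
      intro x hx
      obtain ⟨c, rfl⟩ : ∃ c : A.obj.carrier p, c * e p = x :=
        Ideal.mem_span_singleton'.1 (Ideal.Quotient.eq_zero_iff_mem.1 (congrArg Prod.fst hx))
      obtain ⟨d, hd⟩ : ∃ d : A.obj.carrier p, d * (1 - e p) = c * e p :=
        Ideal.mem_span_singleton'.1 (Ideal.Quotient.eq_zero_iff_mem.1 (congrArg Prod.snd hx))
      calc c * e p = (c * e p) * e p := by rw [mul_assoc, (he p).eq]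
        _ = d * ((1 - e p) * e p) := by rw [← hd, mul_assoc]
        _ = 0 := by rw [(he p).one_sub_mul_self, mul_zero]
    · obtain ⟨b, hb⟩ := quotπ_surjective A e he hc p y.1
      obtain ⟨d, hd⟩ := quotπ_surjective A (fun p => 1 - e p) (fun p => (he p).one_sub)
        (fun p q h => by rw [map_sub, map_one, hc p q h]) p y.2
      refine ⟨b * (1 - e p) + d * e p, Prod.ext ?_ ?_⟩
      · refine Eq.trans ?_ hb
        refine (Ideal.Quotient.mk_eq_mk_iff_sub_mem _ _).2 ?_
        rw [show b * (1 - e p) + d * e p - b = (d - b) * e p by ring]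
        exact Ideal.mul_mem_left _ _ (Ideal.mem_span_singleton_self _)
      · refine Eq.trans ?_ hd
        refine (Ideal.Quotient.mk_eq_mk_iff_sub_mem _ _).2 ?_
        rw [show b * (1 - e p) + d * e p - d = (b - d) * (1 - e p) by ring]
        exact Ideal.mul_mem_left _ _ (Ideal.mem_span_singleton_self _)
  haveI := isIso_of_bijective φ hb
  let u : prodFEt A D ⟶ A := prodFst A D
  let v : prodFEt A D ⟶ A :=
    (prodIsLimit Q D).lift (BinaryFan.mk (prodFst A D ≫ quotπ A e he hc) (prodSnd A D)) ≫ inv φ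
  have hvφ : v ≫ φ = (prodIsLimit Q D).lift (BinaryFan.mk (prodFst A D ≫ quotπ A e he hc) (prodSnd A D)) := by
    simp [v]
  have hfac : ∀ (p : X.pt) (x : (prodFEt A D).obj.carrier p),
      φ.hom.app p (v.hom.app p x) = ((quotπ A e he hc).hom.app p x.1, x.2) := fun p x =>
    congr(($hvφ).hom.app p x)
  have huv : u ≫ f = v ≫ f := hom_eq fun p x => by
    show f.hom.app p x.1 = f.hom.app p (v.hom.app p x)
    refine (sub_eq_zero.1 ?_)
    rw [← map_sub]
    exact (hk p).ge (Ideal.Quotient.eq.1 (congrArg Prod.fst (hfac p x)).symm)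
  have huv' : u = v := (cancel_mono f).1 huv
  refine (injective_iff_map_eq_zero _).2 fun a ha => ?_
  have h1 : π.hom.app p 1 = 0 := by
    have h := congrArg Prod.snd (hfac p (1, 0))
    rw [← huv'] at h
    exact h
  obtain ⟨c, hce⟩ := Ideal.mem_span_singleton'.1 (Ideal.Quotient.eq_zero_iff_mem.1 h1)
  obtain ⟨d, rfl⟩ := Ideal.mem_span_singleton'.1 ((hk p).le ha)
  calc d * e p = d * (e p * (c * (1 - e p))) := by rw [hce, mul_one]
    _ = 0 := by rw [mul_left_comm (e p), (he p).mul_one_sub_self, mul_zero, mul_zero]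

end Groth.Agent.SchFinLib
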