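import Mathlib.RingTheory.Etale.Pi
import Mathlib.RingTheory.Localization.AtPrime.Basic
import Mathlib.RingTheory.Localization.Away.Lemmas
import Mathlib.RingTheory.LocalRing.Basic

/-!
# Invariants of a group acting on a split algebra
-/

set_option autoImplicit false
set_option linter.style.haveILetI false

universe u v

namespace Groth.Agent.SchFinLib

/-- The elements fixed by a family of endomorphisms. -/
def fixSub {R A : Type u} {ι : Type v} [CommRing R] [CommRing A] [Algebra R A]
    (ρ : ι → A →ₐ[R] A) : Subalgebra R A where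
  carrier := {a | ∀ g, ρ g a = a}
  mul_mem' ha hb g := by rw [map_mul, ha g, hb g]
  add_mem' ha hb g := by rw [map_add, ha g, hb g]
  algebraMap_mem' r g := (ρ g).commutes r

theorem mem_fixSub {R A : Type u} {ι : Type v} [CommRing R] [CommRing A] [Algebra R A]
    (ρ : ι → A →ₐ[R] A) (a : A) : a ∈ fixSub ρ ↔ ∀ g, ρ g a = a := Iff.rfl

variable {R : Type u} [CommRing R] {n : ℕ}

theorem idem_local {L : Type u} [CommRing L] [IsLocalRing L] {e : L} (he : IsIdempotentElem e) :
    e = 0 ∨ e = 1 := by
  rcases IsLocalRing.isUnit_or_isUnit_one_sub_self e with h | h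
  · exact Or.inr (h.mul_left_cancel (he.eq.trans (mul_one e).symm))
  · exact Or.inl (by
      have := h.mul_left_cancel (he.one_sub.eq.trans (mul_one (1 - e)).symm)
      linear_combination -this)

/-- In a localisation at a prime, an endomorphism of a split algebra moves coordinates. -/
theorem exists_index (τ : (Fin n → R) →ₐ[R] (Fin n → R)) (P : Ideal R) [P.IsPrime] (i : Fin n) :
    ∃ j, ∀ b, algebraMap R (Localization.AtPrime P) (τ b i) =
      algebraMap R (Localization.AtPrime P) (b j) := by
  classical
  let L := Localization.AtPrime P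
  let ε : Fin n → L := fun j => algebraMap R L (τ (Pi.single j 1) i)
  have hsum : ∀ b, algebraMap R L (τ b i) = ∑ j, algebraMap R L (b j) * ε j := fun b => by
    conv_lhs => rw [show b = ∑ j, b j • (Pi.single j (1 : R) : Fin n → R) by
      funext k; simp [Finset.sum_apply, Pi.single_apply]]
    simp [ε, map_sum, Finset.sum_apply]
  have hid : ∀ j, ε j = 0 ∨ ε j = 1 := fun j => idem_local
    ((show IsIdempotentElem (Pi.single j (1 : R) : Fin n → R) from
      funext fun k => by by_cases hk : k = j <;> simp [Pi.single_apply, hk]).map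
      ((algebraMap R L).comp ((Pi.evalRingHom (fun _ : Fin n => R) i).comp τ.toRingHom)))
  obtain ⟨j, hj⟩ : ∃ j, ε j = 1 := by
    by_contra! h
    have h1 := hsum 1
    simp only [map_one, Pi.one_apply, one_mul] at h1
    rw [Finset.sum_eq_zero fun j _ => (hid j).resolve_right (h j)] at h1
    exact one_ne_zero h1
  refine ⟨j, fun b => ?_⟩
  rw [hsum, Finset.sum_eq_single j (fun k _ hk => ?_) (fun h => absurd (Finset.mem_univ _) h), hj,
    mul_one]
  have hz : ε k * ε j = 0 := by
    simp only [ε, ← map_mul]
    rw [← Pi.mul_apply, ← map_mul, show (Pi.single k (1 : R) : Fin n → R) * Pi.single j 1 = 0 from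
      funext fun l => by by_cases hl : l = k <;> simp [Pi.single_apply, hl, hk]]
    simp
  rw [hj, mul_one] at hz
  rw [hz, mul_zero]

variable {G : Type v} [Group G] [Finite G] (σ : G → (Fin n → R) →ₐ[R] (Fin n → R))
  (hone : ∀ b, σ 1 b = b) (hmul : ∀ g h b, σ (g * h) b = σ g (σ h b))

/-- The locus where `j` lies in the orbit of `i`. -/
noncomputable def rel (i j : Fin n) : R :=
  letI := Fintype.ofFinite G
  1 - ∏ g : G, (1 - σ g (Pi.single j 1) i)

/-- The locus where `i` is least in its orbit. -/
noncomputable def least (i : Fin n) : R := ∏ j ∈ Finset.Iio i, (1 - rel σ i j)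

include hone hmul in
/-- In a localisation at a prime the loci are given by a least representative in each orbit. -/
theorem exists_least (P : Ideal R) [P.IsPrime] :
    ∃ m : Fin n → Fin n,
      (∀ b ∈ fixSub σ, ∀ j, algebraMap R (Localization.AtPrime P) (b (m j)) = algebraMap R _ (b j)) ∧
      (∀ i, algebraMap R (Localization.AtPrime P) (least σ i) = if m i = i then 1 else 0) ∧
      (∀ i j, m i = i → algebraMap R (Localization.AtPrime P) (rel σ j i) = if m j = i then 1 else 0) ∧
      (∀ j, m (m j) = m j) ∧
      ∀ g j, ∃ k, (∀ b, algebraMap R (Localization.AtPrime P) (σ g b j) = algebraMap R _ (b k)) ∧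
        m k = m j := by
  classical
  letI := Fintype.ofFinite G
  choose π hπ using fun g => exists_index (σ g) P
  let L := Localization.AtPrime P
  have huniq : ∀ j k, (∀ b : Fin n → R, algebraMap R L (b j) = algebraMap R L (b k)) → j = k := by
    intro j k h
    by_contra hne
    have := h (Pi.single j 1)
    simp [Pi.single_apply, Ne.symm hne] at this
  have hcomp : ∀ g h i, π (g * h) i = π h (π g i) := fun g h i => huniq _ _ fun b => by
    rw [← hπ, ← hπ, hmul, hπ]
  have hid : ∀ i, π 1 i = i := fun i => huniq _ _ fun b => by rw [← hπ, hone]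
  have hrel : ∀ i j, algebraMap R L (rel σ i j) = if ∃ g, π g i = j then 1 else 0 := by
    intro i j
    show algebraMap R L (1 - ∏ g : G, (1 - σ g (Pi.single j 1) i)) = _
    rw [map_sub, map_one, map_prod]
    by_cases h : ∃ g, π g i = j
    · obtain ⟨g, hg⟩ := h
      rw [if_pos ⟨g, hg⟩, Finset.prod_eq_zero (Finset.mem_univ g), sub_zero]
      rw [map_sub, map_one, hπ, hg, Pi.single_eq_same, map_one, sub_self]
    · rw [if_neg h, Finset.prod_eq_one, sub_self]
      intro g _
      rw [map_sub, map_one, hπ, Pi.single_eq_of_ne (fun e => h ⟨g, e⟩), map_zero, sub_zero]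
  let orb : Fin n → Finset (Fin n) := fun i => Finset.univ.image fun g => π g i
  have hne : ∀ i, (orb i).Nonempty := fun i => ⟨π 1 i, Finset.mem_image_of_mem _ (Finset.mem_univ _)⟩
  let m : Fin n → Fin n := fun i => (orb i).min' (hne i)
  have horb : ∀ g i, orb (π g i) = orb i := fun g i => by
    ext k
    simp only [orb, Finset.mem_image, Finset.mem_univ, true_and]
    refine ⟨fun ⟨h, hk⟩ => ⟨g * h, by rw [hcomp, hk]⟩, fun ⟨h, hk⟩ => ⟨g⁻¹ * h, ?_⟩⟩
    rw [← hcomp, mul_inv_cancel_left, hk]
  have hm : ∀ g i, m (π g i) = m i := fun g i => by simp only [m, horb]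
  have hmem : ∀ i, ∃ g, π g i = m i := fun i => by
    obtain ⟨g, -, hg⟩ := Finset.mem_image.1 ((orb i).min'_mem (hne i))
    exact ⟨g, hg⟩
  refine ⟨m, fun b hb j => ?_, fun i => ?_, fun i j hi => ?_, fun j => ?_, fun g j =>
    ⟨π g j, hπ g j, hm g j⟩⟩
  · obtain ⟨g, hg⟩ := hmem j
    rw [← hg, ← hπ, hb g]
  · rw [least, map_prod]
    by_cases hi : m i = i
    · rw [if_pos hi, Finset.prod_eq_one]
      intro j hj
      rw [map_sub, map_one, hrel, if_neg, sub_zero]
      rintro ⟨g, rfl⟩
      have hle := Finset.min'_le (orb i) (π g i) (Finset.mem_image_of_mem _ (Finset.mem_univ g))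
      exact (Finset.mem_Iio.1 hj).not_ge (hi.symm.le.trans hle)
    · rw [if_neg hi]
      obtain ⟨g, hg⟩ := hmem i
      have hlt : m i < i := lt_of_le_of_ne
        (Finset.min'_le _ _ (Finset.mem_image.2 ⟨1, Finset.mem_univ _, hid i⟩)) hi
      refine Finset.prod_eq_zero (Finset.mem_Iio.2 hlt) ?_
      rw [map_sub, map_one, hrel, if_pos ⟨g, hg⟩, sub_self]
  · rw [hrel]
    refine if_congr ⟨fun ⟨g, hg⟩ => ?_, fun h => ?_⟩ rfl rfl
    · rw [← hm g j, hg, hi]
    · obtain ⟨g, hg⟩ := hmem j
      exact ⟨g, hg.trans h⟩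
  · obtain ⟨g, hg⟩ := hmem j
    conv_lhs => rw [← hg, hm]

theorem eq_zero_of_local (x : R)
    (h : ∀ (P : Ideal R) [P.IsPrime], algebraMap R (Localization.AtPrime P) x = 0) : x = 0 := by
  by_contra hx
  have hne : (Submodule.span R {x}).annihilator ≠ ⊤ := by
    intro e
    have := (Submodule.mem_annihilator_span_singleton x 1).1 ((Ideal.eq_top_iff_one _).1 e)
    exact hx (by simpa using this)
  obtain ⟨M, hM, hle⟩ := Ideal.exists_le_maximal _ hne
  obtain ⟨⟨s, hs⟩, hsx⟩ := (IsLocalization.map_eq_zero_iff M.primeCompl (Localization.AtPrime M) x).1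
    (@h M hM.isPrime)
  exact hs (hle ((Submodule.mem_annihilator_span_singleton x s).2 (by simpa [smul_eq_mul] using hsx)))

include hone hmul in
theorem isIdempotentElem_least (i : Fin n) : IsIdempotentElem (least σ i) := by
  refine sub_eq_zero.1 (eq_zero_of_local _ fun P _ => ?_)
  obtain ⟨m, -, hl, -⟩ := exists_least σ hone hmul P
  rw [map_sub, map_mul, hl]
  split_ifs <;> simp

include hone hmul in
/-- The fixed algebra of a group acting on a split algebra is étale. -/
theorem etale_fixSub : Algebra.Etale R (fixSub σ) := by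
  classical
  haveI : ∀ i, Algebra.Etale R (R ⧸ Ideal.span {1 - least σ i}) := fun i => by
    haveI := IsLocalization.Away.quotient_of_isIdempotentElem (isIdempotentElem_least σ hone hmul i)
    exact Algebra.Etale.of_isLocalizationAway (least σ i)
  let Φ : fixSub σ →ₐ[R] (∀ i, R ⧸ Ideal.span {1 - least σ i}) :=
    AlgHom.pi fun i => (Ideal.Quotient.mkₐ R _).comp
      ((Pi.evalAlgHom R (fun _ => R) i).comp (fixSub σ).val)
  have hmk : ∀ (i : Fin n) (x : R),
      Ideal.Quotient.mk (Ideal.span {1 - least σ i}) x = 0 ↔ least σ i * x = 0 := by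
    intro i x
    have he := isIdempotentElem_least σ hone hmul i
    rw [Ideal.Quotient.eq_zero_iff_mem, Ideal.mem_span_singleton']
    constructor
    · rintro ⟨c, rfl⟩
      rw [mul_left_comm, mul_sub, mul_one, he.eq, sub_self, mul_zero]
    · intro h
      exact ⟨x, by rw [mul_sub, mul_one, mul_comm, h, sub_zero]⟩
  have hb : Function.Bijective Φ := by
    refine ⟨(injective_iff_map_eq_zero Φ).2 fun b hb => Subtype.ext (funext fun j => ?_), fun c => ?_⟩
    · refine eq_zero_of_local _ fun P _ => ?_
      obtain ⟨m, hfix, hl, -, hmm, -⟩ := exists_least σ hone hmul P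
      have h0 := (hmk (m j) _).1 (congrFun hb (m j))
      have := congrArg (algebraMap R (Localization.AtPrime P)) h0
      rw [map_mul, hl, if_pos (hmm j), one_mul, map_zero] at this
      exact (hfix _ b.2 j).symm.trans this
    · choose c' hc' using fun i => Ideal.Quotient.mk_surjective (c i)
      let b : Fin n → R := fun j => ∑ i, rel σ j i * least σ i * c' i
      have hbL : ∀ (P : Ideal R) [P.IsPrime] (m : Fin n → Fin n),
          (∀ i, algebraMap R (Localization.AtPrime P) (least σ i) = if m i = i then 1 else 0) →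
          (∀ i j, m i = i → algebraMap R (Localization.AtPrime P) (rel σ j i) = if m j = i then 1 else 0) →
          (∀ j, m (m j) = m j) →
          ∀ j, algebraMap R (Localization.AtPrime P) (b j) = algebraMap R _ (c' (m j)) := by
        intro P _ m hl hr hmm j
        simp only [b, map_sum, map_mul]
        rw [Finset.sum_eq_single (m j) (fun i _ hi => ?_) (fun h => absurd (Finset.mem_univ _) h)]
        · rw [hl, hr _ _ (hmm j), if_pos rfl, if_pos (hmm j), one_mul, one_mul]
        · rw [hl]
          by_cases hi' : m i = i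
          · rw [hr i j hi', if_neg (Ne.symm hi)]
            simp
          · rw [if_neg hi']
            simp
      refine ⟨⟨b, fun g => funext fun j => sub_eq_zero.1 (eq_zero_of_local _ fun P _ => ?_)⟩,
        funext fun i => ?_⟩
      · obtain ⟨m, -, hl, hr, hmm, hk⟩ := exists_least σ hone hmul P
        obtain ⟨k, hk1, hk2⟩ := hk g j
        rw [map_sub, hk1, hbL P m hl hr hmm, hbL P m hl hr hmm, hk2, sub_self]
      · show Ideal.Quotient.mk _ (b i) = c i
        rw [← hc' i, ← sub_eq_zero, ← map_sub, hmk]
        refine eq_zero_of_local _ fun P _ => ?_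
        obtain ⟨m, -, hl, hr, hmm, -⟩ := exists_least σ hone hmul P
        rw [map_mul, map_sub, hl, hbL P m hl hr hmm]
        by_cases hi : m i = i <;> simp [hi]
  exact Algebra.Etale.of_equiv (AlgEquiv.ofBijective Φ hb).symm

end Groth.Agent.SchFinLib
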