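import Groth.Agent.SchFinLib.Cat
import Groth.Agent.SchFinLib.Perm
import Mathlib.RingTheory.Etale.Descent
import Mathlib.LinearAlgebra.TensorProduct.Pi

/-!
# Invariants of étale covers
-/

set_option autoImplicit false
set_option linter.style.haveILetI false

open SchFin CategoryTheory CategoryTheory.Limits TensorProduct

universe u

namespace Groth.Agent.SchFinLib

/-- Elements of a flat base change fixed by a finite family come from the fixed elements. -/
theorem exists_of_fixed {R : Type u} [CommRing R] {A : Type u} [CommRing A] [Algebra R A]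
    {ι : Type u} [Finite ι] (ρ : ι → A →ₐ[R] A) (M : Type u) [AddCommGroup M] [Module R M]
    [Module.Flat R M] (x : M ⊗[R] A) (h : ∀ g, (ρ g).toLinearMap.lTensor M x = x) :
    ∃ y : M ⊗[R] fixSub ρ, (fixSub ρ).val.toLinearMap.lTensor M y = x := by
  classical
  letI := Fintype.ofFinite ι
  let Δ : A →ₗ[R] (ι → A) := LinearMap.pi fun g => (ρ g).toLinearMap - LinearMap.id
  have hex : Function.Exact (fixSub ρ).val.toLinearMap Δ := fun a => by
    refine ⟨fun ha => ⟨⟨a, fun g => sub_eq_zero.1 (congrFun ha g)⟩, rfl⟩, ?_⟩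
    rintro ⟨b, rfl⟩
    exact funext fun g => sub_eq_zero.2 (b.2 g)
  refine ((Module.Flat.lTensor_exact M hex) x).1 ?_
  refine (TensorProduct.piRight R R M fun _ : ι => A).injective ?_
  rw [map_zero]
  funext g
  have key : ∀ z : M ⊗[R] A, TensorProduct.piRight R R M (fun _ : ι => A) (Δ.lTensor M z) g =
      (ρ g).toLinearMap.lTensor M z - z := fun z => by
    induction z using TensorProduct.induction_on with
    | zero => simp
    | add a b ha hb => simp only [map_add, Pi.add_apply, ha, hb]; abel
    | tmul m a => simp [Δ, TensorProduct.tmul_sub]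
  rw [key, h g, sub_self, Pi.zero_apply]

/-- The fixed elements commute with flat base change. -/
theorem isBCAlong_fixed {R S : Type u} [CommRing R] [CommRing S] {g : R →+* S} (hg : g.Flat)
    {A A' : Type u} [CommRing A] [CommRing A'] [Algebra R A] [Algebra S A'] {ι : Type u} [Finite ι]
    (ρ : ι → A →ₐ[R] A) (ρ' : ι → A' →ₐ[S] A') (FA : A →ₛₗ[g] A') (hA : IsBCAlong g FA)
    (hρ : ∀ i a, ρ' i (FA a) = FA (ρ i a)) (F : fixSub ρ →ₛₗ[g] fixSub ρ')
    (hF : ∀ a, (F a : A') = FA a) : IsBCAlong g F := by
  letI : Algebra R S := g.toAlgebra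
  letI : Module R A' := Module.compHom A' g
  letI : Module R (fixSub ρ') := Module.compHom (fixSub ρ') g
  haveI : IsScalarTower R S A' := IsScalarTower.of_algebraMap_smul fun _ _ => rfl
  haveI : IsScalarTower R S (fixSub ρ') := IsScalarTower.of_algebraMap_smul fun _ _ => rfl
  haveI : Module.Flat R S := hg
  unfold IsBCAlong at hA
  let κ : S ⊗[R] fixSub ρ →ₗ[S] A' := hA.equiv.toLinearMap ∘ₗ (fixSub ρ).val.toLinearMap.baseChange S
  have key : ∀ i z, ρ' i (hA.equiv z) = hA.equiv ((ρ i).toLinearMap.lTensor S z) := fun i z => by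
    induction z using TensorProduct.induction_on with
    | zero => simp
    | add a b ha hb => simp only [map_add, ha, hb]
    | tmul s a =>
      rw [LinearMap.lTensor_tmul, IsBaseChange.equiv_tmul, IsBaseChange.equiv_tmul, map_smul]
      exact congrArg (s • ·) (hρ i a)
  have hmem : ∀ z, κ z ∈ fixSub ρ' := fun z => by
    induction z using TensorProduct.induction_on with
    | zero => simp [κ]
    | add a b ha hb => rw [map_add]; exact (fixSub ρ').add_mem ha hb
    | tmul s a =>
      have : κ (s ⊗ₜ a) = s • FA (a : A) := by simp [κ, IsBaseChange.equiv_tmul]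
      rw [this]
      exact (fixSub ρ').smul_mem (fun i => (hρ i a).trans (congrArg FA (a.2 i))) s
  let κ' : S ⊗[R] fixSub ρ →ₗ[S] fixSub ρ' :=
    LinearMap.codRestrict (Subalgebra.toSubmodule (fixSub ρ')) κ hmem
  have hinj : Function.Injective κ' := fun a b e =>
    Module.Flat.lTensor_preserves_injective_linearMap (M := S) (fixSub ρ).val.toLinearMap
      Subtype.val_injective (hA.equiv.injective (show κ a = κ b from congrArg (fun z : fixSub ρ' => (z : A')) e))
  have hsurj : Function.Surjective κ' := fun c => by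
    obtain ⟨y, hy⟩ := exists_of_fixed ρ S (hA.equiv.symm c) fun i => hA.equiv.injective (by
      rw [← key, hA.equiv.apply_symm_apply]
      exact c.2 i)
    exact ⟨y, Subtype.ext ((congrArg hA.equiv hy).trans (hA.equiv.apply_symm_apply _))⟩
  refine IsBaseChange.of_equiv (LinearEquiv.ofBijective κ' ⟨hinj, hsurj⟩) fun a => Subtype.ext ?_
  show hA.equiv ((1 : S) ⊗ₜ[R] (a : A)) = _
  rw [IsBaseChange.equiv_tmul, one_smul]
  exact (hF a).symm

/-- The fixed algebra of an algebra trivialised by a faithfully flat cover is étale. -/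
theorem etale_fixSub_of_split {R A T : Type u} [CommRing R] [CommRing A] [CommRing T] [Algebra R A]
    [Algebra R T] [Module.FaithfullyFlat R T] {n : ℕ} (e : T ⊗[R] A ≃ₐ[T] (Fin n → T))
    {G : Type u} [Group G] [Finite G] (ρ : G → A →ₐ[R] A) (hone : ∀ a, ρ 1 a = a)
    (hmul : ∀ g h a, ρ (g * h) a = ρ g (ρ h a)) : Algebra.Etale R (fixSub ρ) := by
  let r : G → T ⊗[R] A →ₐ[T] T ⊗[R] A := fun g => Algebra.TensorProduct.map (AlgHom.id T T) (ρ g)
  let σ : G → (Fin n → T) →ₐ[T] (Fin n → T) := fun g => (e.toAlgHom.comp (r g)).comp e.symm.toAlgHom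
  have hr1 : ∀ x, r 1 x = x := fun x => by
    induction x using TensorProduct.induction_on with
    | zero => simp
    | add a b ha hb => simp only [map_add, ha, hb]
    | tmul t a => simp [r, hone]
  have hrm : ∀ g h x, r (g * h) x = r g (r h x) := fun g h x => by
    induction x using TensorProduct.induction_on with
    | zero => simp
    | add a b ha hb => simp only [map_add, ha, hb]
    | tmul t a => simp [r, hmul]
  have hσ1 : ∀ b, σ 1 b = b := fun b => by simp [σ, hr1]
  have hσm : ∀ g h b, σ (g * h) b = σ g (σ h b) := fun g h b => by simp [σ, hrm]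
  haveI := etale_fixSub σ hσ1 hσm
  let Ψ : T ⊗[R] fixSub ρ →ₐ[T] (Fin n → T) :=
    e.toAlgHom.comp (Algebra.TensorProduct.map (AlgHom.id T T) (fixSub ρ).val)
  have hval : ∀ z, Algebra.TensorProduct.map (AlgHom.id T T) (fixSub ρ).val z =
      (fixSub ρ).val.toLinearMap.lTensor T z := fun z => by
    induction z using TensorProduct.induction_on with
    | zero => simp
    | add a b ha hb => simp only [map_add, ha, hb]
    | tmul t a => simp
  have hlt : ∀ g z, r g z = (ρ g).toLinearMap.lTensor T z := fun g z => by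
    induction z using TensorProduct.induction_on with
    | zero => simp
    | add a b ha hb => simp only [map_add, ha, hb]
    | tmul t a => simp [r]
  have hmem : ∀ z, Ψ z ∈ fixSub σ := fun z g => by
    induction z using TensorProduct.induction_on with
    | zero => simp
    | add a b ha hb => simp only [map_add, ha, hb]
    | tmul t a => simp [σ, Ψ, r, a.2 g]
  have hb : Function.Bijective (Ψ.codRestrict (fixSub σ) hmem) := by
    refine ⟨fun a b h => ?_, fun c => ?_⟩
    · have := e.injective (congrArg Subtype.val h)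
      exact Module.Flat.lTensor_preserves_injective_linearMap (M := T) (fixSub ρ).val.toLinearMap
        Subtype.val_injective ((hval a).symm.trans (this.trans (hval b)))
    · obtain ⟨y, hy⟩ := exists_of_fixed ρ T (e.symm c) fun g => by
        rw [← hlt]
        refine e.injective ?_
        rw [e.apply_symm_apply]
        exact c.2 g
      exact ⟨y, Subtype.ext ((congrArg e ((hval y).trans hy)).trans (e.apply_symm_apply _))⟩
  haveI : Algebra.Etale T (T ⊗[R] fixSub ρ) :=
    Algebra.Etale.of_equiv (AlgEquiv.ofBijective _ hb).symm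
  exact Algebra.Etale.of_etale_tensorProduct_of_faithfullyFlat T

variable {X : RSpace.{u}} {A : FEt X} {G : Type u} [Group G] [Finite G] (ρ : G → (A ⟶ A))

/-- The family at a point. -/
abbrev rhoAt (p : X.pt) : G → A.obj.carrier p →ₐ[X.ring p] A.obj.carrier p :=
  fun g => (ρ g).hom.app p

/-- The invariant algebra. -/
noncomputable def invAlg : Alg X where
  carrier p := fixSub (rhoAt ρ p)
  res {p q} h := (((A.obj.res h).comp (fixSub (rhoAt ρ p)).val.toRingHom).codRestrict
    (fixSub (rhoAt ρ q)).toSubring fun a g => (app_res (ρ g).hom h a.1).trans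
      (congrArg _ (a.2 g)))
  res_algebraMap h a := Subtype.ext (A.obj.res_algebraMap h a)
  res_self p b := Subtype.ext (A.obj.res_self p b.1)
  res_comp h h' b := Subtype.ext (A.obj.res_comp h h' b.1)

theorem isQcoh_invAlg (hX : X.IsSchematic) : (invAlg ρ).IsQcoh := fun p q h =>
  isBCAlong_fixed (hX.1.2 p q h) (rhoAt ρ p) (rhoAt ρ q) (A.obj.toMod.res h) (A.property.1 p q h)
    (fun g a => app_res (ρ g).hom h a) _ fun _ => rfl

variable (hone : ∀ p a, rhoAt ρ p 1 a = a)
  (hmul : ∀ p g h a, rhoAt ρ p (g * h) a = rhoAt ρ p g (rhoAt ρ p h a))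
  (hX : X.IsSchematic)
  (hlt : ∀ A : FEt X, ∃ (B : Alg X) (n : ℕ), B.IsCovering ∧
    ∀ p : X.pt, Nonempty (TensorProduct (X.ring p) (B.carrier p) (A.obj.carrier p) ≃ₐ[B.carrier p] (Fin n → B.carrier p)))

include hone hmul hX hlt in
theorem isEtCover_invAlg : (invAlg ρ).IsEtCover := by
  obtain ⟨B, n, hB, he⟩ := hlt A
  refine ⟨isQcoh_invAlg ρ hX, fun p => ⟨?_, ?_⟩⟩
  · haveI := hX.1.1 p
    haveI := (A.property.2 p).1
    haveI : IsNoetherian (X.ring p) (A.obj.carrier p) := isNoetherian_of_isNoetherianRing_of_finite _ _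
    exact inferInstanceAs (Module.Finite (X.ring p) (Subalgebra.toSubmodule (fixSub (rhoAt ρ p))))
  · haveI := (hB.2 p).2
    exact etale_fixSub_of_split (he p).some (rhoAt ρ p) (hone p) (hmul p)

/-- The invariant cover. -/
noncomputable def invFEt : FEt X := ⟨invAlg ρ, isEtCover_invAlg ρ hone hmul hX hlt⟩

/-- The inclusion of invariants. -/
noncomputable def invι : invFEt ρ hone hmul hX hlt ⟶ A :=
  ObjectProperty.homMk ⟨fun p => (fixSub (rhoAt ρ p)).val, fun _ _ => rfl⟩

theorem invι_comp (g : G) : invι ρ hone hmul hX hlt ≫ ρ g = invι ρ hone hmul hX hlt :=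
  hom_eq fun _ a => a.2 g

/-- An invariant morphism lands in the invariants. -/
noncomputable def invLift {W : FEt X} (u : W ⟶ A) (hu : ∀ g, u ≫ ρ g = u) :
    W ⟶ invFEt ρ hone hmul hX hlt :=
  ObjectProperty.homMk ⟨fun p => (u.hom.app p).codRestrict (fixSub (rhoAt ρ p))
    fun a g => congr(($(hu g)).hom.app p a), fun h b => Subtype.ext (u.hom.compat h b)⟩

theorem invLift_ι {W : FEt X} (u : W ⟶ A) (hu : ∀ g, u ≫ ρ g = u) :
    invLift ρ hone hmul hX hlt u hu ≫ invι ρ hone hmul hX hlt = u := hom_eq fun _ _ => rfl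

theorem invι_cancel {W : FEt X} (u v : W ⟶ invFEt ρ hone hmul hX hlt)
    (h : u ≫ invι ρ hone hmul hX hlt = v ≫ invι ρ hone hmul hX hlt) : u = v :=
  hom_eq fun p a => Subtype.ext congr(($h).hom.app p a)

end Groth.Agent.SchFinLib
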