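import Groth.Agent.SchFinLib.Preserve
import Groth.Agent.SchFinLib.Inv
import Mathlib.CategoryTheory.SingleObj
import Mathlib.Algebra.Polynomial.Roots
import Mathlib.CategoryTheory.Limits.Opposites

/-!
# The Galois category of étale covers
-/

set_option autoImplicit false
set_option linter.style.haveILetI false

open SchFin CategoryTheory CategoryTheory.Limits TensorProduct Opposite

universe u

namespace Groth.Agent.SchFinLib

open Polynomial in
/-- Two maps to a domain agreeing on the invariants of a finite group are conjugate. -/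
theorem exists_conj {A Ω : Type u} [CommRing A] [CommRing Ω] [IsDomain Ω] {G : Type u} [Group G]
    [Finite G] (ρ : G → A →+* A) (hone : ∀ a, ρ 1 a = a) (hmul : ∀ g h a, ρ (g * h) a = ρ g (ρ h a))
    (φ ψ : A →+* Ω) (h : ∀ a, (∀ g, ρ g a = a) → φ a = ψ a) : ∃ g, ∀ a, ψ a = φ (ρ g a) := by
  classical
  letI := Fintype.ofFinite G
  by_contra! hne
  choose a ha using hne
  let idx := Fintype.equivFin G
  let z : A[X] := ∑ g, monomial (idx g : ℕ) (a g)
  have hz : ∀ (f : A →+* Ω) (g : G), (z.map f).coeff (idx g) = f (a g) := fun f g => by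
    simp only [z, coeff_map, finsetSum_coeff, coeff_monomial]
    rw [Finset.sum_eq_single g (fun g' _ hg' => if_neg fun e => hg' (idx.injective (Fin.ext e)))
      (fun h => absurd (Finset.mem_univ _) h), if_pos rfl]
  let P : A[X][X] := ∏ g : G, (Polynomial.X - Polynomial.C (z.map (ρ g)))
  have hfix : ∀ k, P.map (Polynomial.mapRingHom (ρ k)) = P := fun k => by
    simp only [P, Polynomial.map_prod, Polynomial.map_sub, Polynomial.map_X, Polynomial.map_C,
      Polynomial.coe_mapRingHom, Polynomial.map_map]
    have : ∀ g, z.map ((ρ k).comp (ρ g)) = z.map (ρ (k * g)) := fun g =>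
      congrArg (z.map ·) (RingHom.ext fun x => (hmul k g x).symm)
    simp only [this]
    exact Fintype.prod_equiv (Equiv.mulLeft k) _ _ fun g => rfl
  have hPQ : P.map (Polynomial.mapRingHom φ) = P.map (Polynomial.mapRingHom ψ) :=
    Polynomial.ext fun i => Polynomial.ext fun j => by
      simp only [coeff_map, Polynomial.coe_mapRingHom]
      exact h _ fun k => by
        have := congr(($(hfix k)).coeff i)
        rw [coeff_map, Polynomial.coe_mapRingHom] at this
        have := congr(($this).coeff j)
        rwa [coeff_map] at this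
  have h0 : (P.map (Polynomial.mapRingHom ψ)).eval (z.map ψ) = 0 := by
    simp only [P, Polynomial.map_prod, Polynomial.eval_prod]
    refine Finset.prod_eq_zero (Finset.mem_univ (1 : G)) ?_
    simp only [Polynomial.map_sub, Polynomial.map_X, Polynomial.map_C, Polynomial.eval_sub,
      Polynomial.eval_X, Polynomial.eval_C, Polynomial.coe_mapRingHom, Polynomial.map_map]
    rw [show ψ.comp (ρ 1) = ψ from RingHom.ext fun x => congrArg ψ (hone x), sub_self]
  rw [← hPQ] at h0
  simp only [P, Polynomial.map_prod, Polynomial.eval_prod, Finset.prod_eq_zero_iff] at h0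
  obtain ⟨g, -, hg⟩ := h0
  simp only [Polynomial.map_sub, Polynomial.map_X, Polynomial.map_C, Polynomial.eval_sub,
    Polynomial.eval_X, Polynomial.eval_C, Polynomial.coe_mapRingHom, Polynomial.map_map,
    sub_eq_zero] at hg
  have := congr(($hg).coeff (idx g))
  rw [hz, hz] at this
  exact ha g this

variable {X : RSpace.{u}}

section

variable (hX : X.IsSchematic)
  (hlt : ∀ A : FEt X, ∃ (B : Alg X) (n : ℕ), B.IsCovering ∧
    ∀ p : X.pt, Nonempty (TensorProduct (X.ring p) (B.carrier p) (A.obj.carrier p) ≃ₐ[B.carrier p] (Fin n → B.carrier p)))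
  (G : Type u) [Group G] [Finite G]

/-- The action of a diagram on a one-object category. -/
abbrev actOf (K : SingleObj G ⥤ FEt X) (g : G) :
    K.obj (SingleObj.star G) ⟶ K.obj (SingleObj.star G) :=
  K.map (X := SingleObj.star G) (Y := SingleObj.star G) g

theorem actOf_one (K : SingleObj G ⥤ FEt X) (p : X.pt) (a : (K.obj (SingleObj.star G)).obj.carrier p) :
    rhoAt (actOf G K) p 1 a = a := by
  have h : actOf G K 1 = 𝟙 _ := K.map_id _
  exact congr(($h).hom.app p a)

theorem actOf_mul (K : SingleObj G ⥤ FEt X) (p : X.pt) (g h : G)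
    (a : (K.obj (SingleObj.star G)).obj.carrier p) :
    rhoAt (actOf G K) p (g * h) a = rhoAt (actOf G K) p g (rhoAt (actOf G K) p h a) := by
  have e : actOf G K (g * h) = actOf G K h ≫ actOf G K g :=
    K.map_comp (X := SingleObj.star G) (Y := SingleObj.star G) (Z := SingleObj.star G) h g
  exact congr(($e).hom.app p a)

include hX hlt in
theorem hasLimitsOfShape_singleObj : HasLimitsOfShape (SingleObj G) (FEt X) := by
  refine ⟨fun K => ?_⟩
  let ρ := actOf G K
  let ι := invι ρ (actOf_one G K) (actOf_mul G K) hX hlt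
  let c : Cone K :=
    { pt := invFEt ρ (actOf_one G K) (actOf_mul G K) hX hlt
      π := { app := fun _ => ι
             naturality := fun _ _ g => (Category.id_comp _).trans (invι_comp ρ _ _ hX hlt g).symm } }
  exact HasLimit.mk ⟨c,
    { lift := fun s => invLift ρ _ _ hX hlt (s.π.app (SingleObj.star G)) fun g =>
        s.w (j := SingleObj.star G) (j' := SingleObj.star G) g
      fac := fun s j => invLift_ι ρ _ _ hX hlt _ _
      uniq := fun s m hm => invι_cancel ρ _ _ hX hlt _ _
        ((hm (SingleObj.star G)).trans (invLift_ι ρ _ _ hX hlt _ _).symm) }⟩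

variable (K : SingleObj G ⥤ (FEt X)ᵒᵖ)

/-- The action of a diagram in the opposite category. -/
abbrev actOp (g : G) : (K.obj (SingleObj.star G)).unop ⟶ (K.obj (SingleObj.star G)).unop :=
  (K.map (X := SingleObj.star G) (Y := SingleObj.star G) g⁻¹).unop

theorem actOp_one (p : X.pt) (a : (K.obj (SingleObj.star G)).unop.obj.carrier p) :
    rhoAt (actOp G K) p 1 a = a := by
  have h : actOp G K 1 = 𝟙 _ := by
    show (K.map (X := SingleObj.star G) (Y := SingleObj.star G) (1 : G)⁻¹).unop = _
    rw [inv_one]
    exact congrArg Quiver.Hom.unop (K.map_id (SingleObj.star G))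
  exact congr(($h).hom.app p a)

theorem actOp_mul (p : X.pt) (g h : G) (a : (K.obj (SingleObj.star G)).unop.obj.carrier p) :
    rhoAt (actOp G K) p (g * h) a = rhoAt (actOp G K) p g (rhoAt (actOp G K) p h a) := by
  have e : actOp G K (g * h) = actOp G K h ≫ actOp G K g := by
    show (K.map (X := SingleObj.star G) (Y := SingleObj.star G) (g * h)⁻¹).unop = _
    rw [mul_inv_rev]
    exact congrArg Quiver.Hom.unop
      (K.map_comp (X := SingleObj.star G) (Y := SingleObj.star G) (Z := SingleObj.star G) g⁻¹ h⁻¹)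
  exact congr(($e).hom.app p a)

/-- The quotient cocone. -/
noncomputable def quotCocone : Cocone K where
  pt := op (invFEt (actOp G K) (actOp_one G K) (actOp_mul G K) hX hlt)
  ι :=
    { app := fun _ => (invι (actOp G K) (actOp_one G K) (actOp_mul G K) hX hlt).op
      naturality := fun _ _ g => Quiver.Hom.unop_inj (by
        have := invι_comp (actOp G K) (actOp_one G K) (actOp_mul G K) hX hlt g⁻¹
        simp only [actOp, inv_inv] at this
        exact this.trans (Category.comp_id _).symm) }

theorem cocone_inv (s : Cocone K) (g : G) :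
    (s.ι.app (SingleObj.star G)).unop ≫ actOp G K g = (s.ι.app (SingleObj.star G)).unop :=
  congrArg Quiver.Hom.unop (s.w (j := SingleObj.star G) (j' := SingleObj.star G) g⁻¹)

/-- The quotient is a colimit. -/
noncomputable def quotIsColimit : IsColimit (quotCocone hX hlt G K) where
  desc s := (invLift (actOp G K) (actOp_one G K) (actOp_mul G K) hX hlt
    (s.ι.app (SingleObj.star G)).unop (cocone_inv G K s)).op
  fac s j := Quiver.Hom.unop_inj (invLift_ι (actOp G K) _ _ hX hlt _ (cocone_inv G K s))
  uniq s m hm := Quiver.Hom.unop_inj (invι_cancel (actOp G K) _ _ hX hlt _ _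
    ((congrArg Quiver.Hom.unop (hm (SingleObj.star G))).trans
      (invLift_ι (actOp G K) _ _ hX hlt _ (cocone_inv G K s)).symm))

include hX hlt in
theorem hasColimitsOfShape_op : HasColimitsOfShape (SingleObj G) (FEt X)ᵒᵖ :=
  ⟨fun K => HasColimit.mk ⟨_, quotIsColimit hX hlt G K⟩⟩

variable {Ω : Type u} [Field Ω] [IsAlgClosed Ω] (ξ : GeomPt X Ω)

include hX hlt in
theorem preservesQuotients : PreservesColimitsOfShape (SingleObj G) ξ.fibFunctor := by
  refine ⟨fun {K} => ?_⟩
  let ρ := actOp G K
  let ι := invι ρ (actOp_one G K) (actOp_mul G K) hX hlt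
  have hsurj : Function.Surjective (ξ.fibMap ι.hom) :=
    fibMap_surjective_of_injective ξ ι Subtype.val_injective
  have horb : ∀ x y, ξ.fibMap ι.hom x = ξ.fibMap ι.hom y →
      ∃ g, y = ξ.fibMap (ρ g).hom x := by
    intro x y e
    obtain ⟨φ, rfl⟩ := (toFib_bijective ξ _).2 x
    obtain ⟨ψ, rfl⟩ := (toFib_bijective ξ _).2 y
    rw [fibMap_toFib, fibMap_toFib] at e
    have e' := congrArg Subtype.val ((toFib_bijective ξ _).1 e)
    obtain ⟨g, hg⟩ := exists_conj (fun g => ((rhoAt ρ ξ.base) g).toRingHom)
      (actOp_one G K ξ.base) (actOp_mul G K ξ.base) φ.1 ψ.1 fun a ha => congr($e' ⟨a, ha⟩)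
    refine ⟨g, ?_⟩
    rw [fibMap_toFib]
    exact congrArg _ (Subtype.ext (RingHom.ext hg))
  refine preservesColimit_of_preserves_colimit_cocone (quotIsColimit hX hlt G K) ?_
  have hconst : ∀ (s : Cocone (K ⋙ ξ.fibFunctor)) x y, ξ.fibMap ι.hom x = ξ.fibMap ι.hom y →
      s.ι.app (SingleObj.star G) x = s.ι.app (SingleObj.star G) y := fun s x y e => by
    obtain ⟨g, rfl⟩ := horb x y e
    exact (congr($(s.w (j := SingleObj.star G) (j' := SingleObj.star G) g⁻¹) x)).symm
  exact
    { desc := fun s => FintypeCat.homMk fun y =>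
        s.ι.app (SingleObj.star G) (Function.surjInv hsurj y)
      fac := fun s j => FintypeCat.hom_ext _ _ fun x =>
        hconst s _ _ (Function.surjInv_eq hsurj _)
      uniq := fun s m hm => FintypeCat.hom_ext _ _ fun y => by
        obtain ⟨x, hx⟩ := hsurj y
        subst hx
        exact (congr($(hm (SingleObj.star G)) x)).trans
          (hconst s _ _ (Function.surjInv_eq hsurj _).symm) }

end

/-- A product decomposition gives a coproduct decomposition in the opposite category. -/
noncomputable def isColimitOpOfIsLimit {A B D : FEt X} {f : A ⟶ B} {π : A ⟶ D}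
    (h : IsLimit (BinaryFan.mk f π)) : IsColimit (BinaryCofan.mk f.op π.op) :=
  BinaryCofan.IsColimit.mk _ (fun f' g' => (h.lift (BinaryFan.mk f'.unop g'.unop)).op)
    (fun f' g' => Quiver.Hom.unop_inj (h.fac (BinaryFan.mk f'.unop g'.unop) ⟨WalkingPair.left⟩))
    (fun f' g' => Quiver.Hom.unop_inj (h.fac (BinaryFan.mk f'.unop g'.unop) ⟨WalkingPair.right⟩))
    fun f' g' m h1 h2 => Quiver.Hom.unop_inj (h.uniq (BinaryFan.mk f'.unop g'.unop) m.unop
      fun j => by
        rcases j with ⟨⟨⟩⟩
        · exact congrArg Quiver.Hom.unop h1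
        · exact congrArg Quiver.Hom.unop h2)

theorem exists_galoisCategory (hX : X.IsSchematic) (hwc : X.IsWellConnected)
    (hlt : ∀ A : FEt X, ∃ (B : Alg X) (n : ℕ), B.IsCovering ∧
      ∀ p : X.pt, Nonempty (TensorProduct (X.ring p) (B.carrier p) (A.obj.carrier p) ≃ₐ[B.carrier p] (Fin n → B.carrier p)))
    (hepi : ∀ (A B : FEt X) (f : A ⟶ B), Epi f → ∀ p : X.pt, Function.Surjective (f.hom.app p))
    {Ω : Type u} [Field Ω] [IsAlgClosed Ω] (ξ : GeomPt X Ω) :
    ∃ h : PreGaloisCategory (FEt X)ᵒᵖ, @PreGaloisCategory.FiberFunctor (FEt X)ᵒᵖ _ h ξ.fibFunctor := by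
  haveI := hasInitial_fet (X := X)
  haveI := hasPushouts_fet (X := X)
  haveI : HasTerminal (FEt X)ᵒᵖ := hasTerminal_op_of_hasInitial
  haveI := hasFiniteCoproducts_op (X := X)
  haveI h : PreGaloisCategory (FEt X)ᵒᵖ :=
    { hasQuotientsByFiniteGroups := fun G _ _ => hasColimitsOfShape_op hX hlt G
      monoInducesIsoOnDirectSummand := fun {A B} i _ => by
        obtain ⟨D, π, ⟨hl⟩⟩ := exists_isLimit_of_surjective hX i.unop
          (hepi _ _ i.unop (CategoryTheory.unop_epi_of_mono i))
        exact ⟨op D, π.op, ⟨isColimitOpOfIsLimit hl⟩⟩ }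
  exact ⟨h,
    { preservesTerminalObjects := preservesTerminal ξ
      preservesPullbacks := preservesPullbacks ξ
      preservesFiniteCoproducts := preservesFiniteCoproducts ξ
      preservesEpis := preservesEpis ξ hX
      preservesQuotientsByFiniteGroups := fun G _ _ => preservesQuotients hX hlt G ξ
      reflectsIsos := reflectsIsomorphisms_fibFunctor ξ hX hwc }⟩

end Groth.Agent.SchFinLib
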