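import Groth.Agent.SchFinLib.Factor
import Groth.Agent.SchFinLib.Conn
import Mathlib.RingTheory.Spectrum.Prime.FreeLocus
import Mathlib.RingTheory.LocalRing.Module
import Mathlib.RingTheory.Support
import Mathlib.RingTheory.Finiteness.ModuleFinitePresentation

/-!
# Ranks of étale covers
-/

set_option autoImplicit false
set_option linter.style.haveILetI false

open SchFin CategoryTheory CategoryTheory.Limits TensorProduct

universe u

namespace Groth.Agent.SchFinLib

section Ring

variable {R A B : Type u} [CommRing R] [CommRing A] [CommRing B] [Algebra R A] [Algebra R B]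
  [Algebra.Etale R A] [Algebra.Etale R B] [Module.Finite R A] [Module.Finite R B]

theorem finrank_fiber_eq (P : PrimeSpectrum R) :
    Module.finrank P.asIdeal.ResidueField (P.asIdeal.ResidueField ⊗[R] A) =
      Module.rankAtStalk A P :=
  (Module.rankAtStalk_eq P).symm

theorem surjective_of_injective_of_rank_eq (f : A →ₐ[R] B) (hf : Function.Injective f)
    (h : ∀ P, Module.rankAtStalk (R := R) A P = Module.rankAtStalk B P) : Function.Surjective f := by
  letI := f.toRingHom.toAlgebra
  haveI : IsScalarTower R A B := IsScalarTower.of_algebraMap_eq fun r => (f.commutes r).symm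
  obtain ⟨_, _, _⟩ := finite_etale_of_tower R (A := A) (B := B)
  haveI : FaithfulSMul A B := (faithfulSMul_iff_algebraMap_injective A B).2 hf
  haveI : Algebra.IsIntegral A B := Algebra.IsIntegral.of_finite A B
  haveI : Module.FaithfullyFlat A B :=
    Module.FaithfullyFlat.of_comap_surjective (Algebra.IsIntegral.comap_surjective A B)
  let N := B ⧸ LinearMap.range f.toLinearMap
  suffices hN : Subsingleton N from
    LinearMap.range_eq_top.1 (Submodule.Quotient.subsingleton_iff.1 hN)
  rw [← Module.support_eq_empty_iff (R := R), Set.eq_empty_iff_forall_notMem]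
  intro P
  rw [Module.mem_support_iff_nontrivial_residueField_tensorProduct, not_nontrivial_iff_subsingleton]
  let K := P.asIdeal.ResidueField
  let φ := f.toLinearMap.baseChange K
  have hinj : Function.Injective φ := by
    have key : ∀ m : A ⊗[R] K, f.toLinearMap.rTensor K m =
        AlgebraTensorModule.cancelBaseChange R A B B K (TensorProduct.mk A B (A ⊗[R] K) 1 m) := by
      intro m
      induction m using TensorProduct.induction_on with
      | zero => simp
      | add a b ha hb => simp only [map_add, ha, hb]
      | tmul a k =>
        rw [LinearMap.rTensor_tmul, TensorProduct.mk_apply,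
          AlgebraTensorModule.cancelBaseChange_tmul, Algebra.smul_def, mul_one]
        rfl
    have hr : Function.Injective (f.toLinearMap.rTensor K) := fun a b hab =>
      Module.FaithfullyFlat.tensorProduct_mk_injective (A := A) (B := B) (A ⊗[R] K)
        ((AlgebraTensorModule.cancelBaseChange R A B B K).injective (by rw [← key, ← key]; exact hab))
    have hc : ∀ x : K ⊗[R] A, TensorProduct.comm R K B (φ x) =
        f.toLinearMap.rTensor K (TensorProduct.comm R K A x) := fun x => by
      induction x using TensorProduct.induction_on with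
      | zero => simp
      | add a b ha hb => simp only [map_add, ha, hb]
      | tmul k a => simp [φ]
    exact fun a b hab => (TensorProduct.comm R K A).injective (hr (by rw [← hc, ← hc, hab]))
  have hsurj : Function.Surjective φ :=
    (LinearMap.injective_iff_surjective_of_finrank_eq_finrank
      (by rw [finrank_fiber_eq, finrank_fiber_eq, h])).1 hinj
  refine subsingleton_iff_forall_eq 0 |>.2 fun z => ?_
  obtain ⟨y, rfl⟩ := LinearMap.lTensor_surjective K (Submodule.mkQ_surjective _) z
  obtain ⟨x, rfl⟩ := hsurj y
  induction x using TensorProduct.induction_on with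
  | zero => simp
  | add a b ha hb => simp only [map_add, ha, hb, add_zero]
  | tmul k a =>
    simp only [φ, LinearMap.baseChange_tmul, LinearMap.lTensor_tmul, Submodule.mkQ_apply]
    rw [show (LinearMap.range f.toLinearMap).mkQ (f.toLinearMap a) = 0 from
      (Submodule.Quotient.mk_eq_zero _).2 (LinearMap.mem_range_self _ a), tmul_zero]

theorem injective_of_surjective_of_rank_eq [IsNoetherianRing R] (f : A →ₐ[R] B)
    (hf : Function.Surjective f)
    (h : ∀ P, Module.rankAtStalk (R := R) A P = Module.rankAtStalk B P) : Function.Injective f := by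
  letI := f.toRingHom.toAlgebra
  haveI : IsScalarTower R A B := IsScalarTower.of_algebraMap_eq fun r => (f.commutes r).symm
  obtain ⟨e, he, hk⟩ := exists_idem_ker_algHom R (A := A) (B := B)
  suffices h0 : e = 0 by
    refine (injective_iff_map_eq_zero f).2 fun x hx => ?_
    have : x ∈ Ideal.span {e} := hk.le hx
    simpa [h0] using this
  refine he.eq_zero_of_isNilpotent (nilpotent_iff_mem_prime.2 fun Q hQ => ?_)
  let P : PrimeSpectrum R := PrimeSpectrum.comap (algebraMap R A) ⟨Q, hQ⟩
  let K := P.asIdeal.ResidueField
  let φ := f.toLinearMap.baseChange K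
  have hsurj : Function.Surjective φ := LinearMap.lTensor_surjective K hf
  have hinj : Function.Injective φ :=
    (LinearMap.injective_iff_surjective_of_finrank_eq_finrank
      (by rw [finrank_fiber_eq, finrank_fiber_eq, h])).2 hsurj
  have h1 : (1 : K) ⊗ₜ[R] e = 0 := hinj (by
    rw [map_zero, LinearMap.baseChange_tmul,
      show f.toLinearMap e = 0 from hk.ge (Ideal.mem_span_singleton_self e), tmul_zero])
  let i : K →+* Q.ResidueField := Ideal.ResidueField.map P.asIdeal Q (algebraMap R A) rfl
  have hi : ∀ r, i (algebraMap R K r) = algebraMap R Q.ResidueField r := fun r =>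
    (Ideal.ResidueField.map_algebraMap P.asIdeal Q (algebraMap R A) rfl r).trans
      (IsScalarTower.algebraMap_apply R A Q.ResidueField r).symm
  let iK : K →ₐ[R] Q.ResidueField := { i with commutes' := hi }
  let iA : A →ₐ[R] Q.ResidueField := IsScalarTower.toAlgHom R A Q.ResidueField
  have h2 := congrArg (Algebra.TensorProduct.lift iK iA fun _ _ => Commute.all _ _) h1
  rw [Algebra.TensorProduct.lift_tmul, map_one, one_mul, map_zero] at h2
  exact (Ideal.algebraMap_residueField_eq_zero).1 h2

end Ring

variable {X : RSpace.{u}}

/-- The rank of an étale cover. -/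
noncomputable abbrev rk (A : FEt X) (p : X.pt) (P : PrimeSpectrum (X.ring p)) : ℕ :=
  Module.rankAtStalk (R := X.ring p) (A.obj.carrier p) P

theorem rk_res (A : FEt X) {p q : X.pt} (h : p ≤ q) (Q : PrimeSpectrum (X.ring q)) :
    rk A q Q = rk A p (PrimeSpectrum.comap (X.res h) Q) := by
  haveI := (A.property.2 p).1
  haveI := (A.property.2 p).2
  letI : Algebra (X.ring p) (X.ring q) := (X.res h).toAlgebra
  letI : Module (X.ring p) (A.obj.toMod.carrier q) := Module.compHom _ (X.res h)
  haveI : IsScalarTower (X.ring p) (X.ring q) (A.obj.toMod.carrier q) :=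
    IsScalarTower.of_algebraMap_smul fun _ _ => rfl
  have hA : IsBCAlong (X.res h) (A.obj.toMod.res h) := A.property.1 p q h
  unfold IsBCAlong at hA
  have e : X.ring q ⊗[X.ring p] A.obj.carrier p ≃ₗ[X.ring q] A.obj.carrier q := hA.equiv
  show Module.rankAtStalk (A.obj.carrier q) Q = _
  rw [← Module.rankAtStalk_eq_of_equiv e, Module.rankAtStalk_baseChange]
  rfl

theorem rk_const_pt (hw : X.IsWellConnected) (A : FEt X) (p : X.pt) (P Q : PrimeSpectrum (X.ring p)) :
    rk A p P = rk A p Q := by
  haveI := (A.property.2 p).1
  haveI := (A.property.2 p).2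
  haveI := hw.2 p
  haveI : Module.FinitePresentation (X.ring p) (A.obj.carrier p) := by
    haveI : Algebra.FinitePresentation (X.ring p) (A.obj.carrier p) := inferInstance
    exact Module.FinitePresentation.of_finite_of_finitePresentation (X.ring p) (A.obj.carrier p)
  exact (Module.isLocallyConstant_rankAtStalk (R := X.ring p) (M := A.obj.carrier p)).apply_eq_of_preconnectedSpace P Q

/-- On a well-connected space the rank of an étale cover is constant. -/
theorem rk_const (hw : X.IsWellConnected) (A : FEt X) (p q : X.pt) (P : PrimeSpectrum (X.ring p))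
    (Q : PrimeSpectrum (X.ring q)) : rk A p P = rk A q Q := by
  have h := ((isWellConnected_iff X).1 hw).1.2 p q
  induction h with
  | rel a b hab => rw [rk_res A hab Q]; exact rk_const_pt hw A a _ _
  | refl a => exact rk_const_pt hw A a _ _
  | symm a b _ ih => exact (ih Q P).symm
  | trans a b c _ _ i1 i2 =>
    haveI := hw.2 b
    obtain ⟨R⟩ := (inferInstance : Nonempty (PrimeSpectrum (X.ring b)))
    exact (i1 P R).trans (i2 R Q)

end Groth.Agent.SchFinLib
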