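import Groth.Agent.SchFinLib.Rank
import Groth.Agent.SchFinLib.Push
import Mathlib.RingTheory.TotallySplit
import Mathlib.RingTheory.Etale.Field
import Mathlib.FieldTheory.IsSepClosed
import Mathlib.LinearAlgebra.Dimension.Constructions

/-!
# The fibre functor at a geometric point
-/

set_option autoImplicit false
set_option linter.style.haveILetI false

open SchFin CategoryTheory CategoryTheory.Limits TensorProduct

universe u

namespace Groth.Agent.SchFinLib

variable {X : RSpace.{u}} {Ω : Type u} [Field Ω] [IsAlgClosed Ω] (ξ : GeomPt X Ω)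

/-- The points of an algebra over a geometric point. -/
abbrev PtHom (A : Alg X) : Type u :=
  {φ : A.carrier ξ.base →+* Ω // φ.comp (algebraMap (X.ring ξ.base) (A.carrier ξ.base)) = ξ.toField}

/-- The prime of the fibre of a point. -/
noncomputable def toFib (A : Alg X) (φ : PtHom ξ A) : ξ.Fib A := by
  letI : Algebra (X.ring ξ.base) Ω := ξ.toField.toAlgebra
  let φA : A.carrier ξ.base →ₐ[X.ring ξ.base] Ω := { φ.1 with commutes' := fun r => congr($(φ.2) r) }
  exact ⟨RingHom.ker (Algebra.TensorProduct.lift (Algebra.ofId Ω Ω) φA fun _ _ => Commute.all _ _),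
    RingHom.ker_isPrime _⟩

theorem toFib_bijective (A : FEt X) : Function.Bijective (toFib ξ A.obj) := by
  letI : Algebra (X.ring ξ.base) Ω := ξ.toField.toAlgebra
  haveI := (A.property.2 ξ.base).1
  haveI := (A.property.2 ξ.base).2
  let e₁ : PtHom ξ A.obj ≃ (A.obj.carrier ξ.base →ₐ[X.ring ξ.base] Ω) :=
    { toFun := fun φ => { φ.1 with commutes' := fun r => congr($(φ.2) r) }
      invFun := fun f => ⟨f.toRingHom, RingHom.ext fun r => f.commutes r⟩
      left_inv := fun _ => rfl
      right_inv := fun _ => rfl }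
  let e₂ : (A.obj.carrier ξ.base →ₐ[X.ring ξ.base] Ω) ≃
      (Ω ⊗[X.ring ξ.base] A.obj.carrier ξ.base →ₐ[Ω] Ω) :=
    Algebra.TensorProduct.liftEquivRight _ _ _ _
  exact (e₁.trans (e₂.trans (Algebra.IsFiniteSplit.algHomEquivPrimeSpectrum Ω _))).bijective

theorem fibMap_toFib {A B : Alg X} (f : A ⟶ B) (φ : PtHom ξ B) :
    ξ.fibMap f (toFib ξ B φ) = toFib ξ A ⟨φ.1.comp (f.app ξ.base).toRingHom,
      RingHom.ext fun r => (congrArg φ.1 ((f.app ξ.base).commutes r)).trans congr($(φ.2) r)⟩ := by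
  letI : Algebra (X.ring ξ.base) Ω := ξ.toField.toAlgebra
  refine PrimeSpectrum.ext ?_
  show (RingHom.ker _).comap _ = RingHom.ker _
  rw [← RingHom.ker_coe_toRingHom, RingHom.comap_ker, ← RingHom.ker_coe_toRingHom]
  congr 1
  refine RingHom.ext fun x => ?_
  induction x using TensorProduct.induction_on with
  | zero => simp
  | add a b ha hb => simp only [map_add, ha, hb]
  | tmul s a => simp

/-- The points of a fibre, as ring maps. -/
noncomputable def fibEquiv (A : FEt X) : PtHom ξ A.obj ≃ ξ.Fib A.obj :=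
  Equiv.ofBijective _ (toFib_bijective ξ A)

theorem fibMap_injective_iff {A B : FEt X} (f : A ⟶ B) :
    Function.Injective (ξ.fibMap f.hom) ↔ ∀ φ ψ : PtHom ξ B.obj,
      φ.1.comp (f.hom.app ξ.base).toRingHom = ψ.1.comp (f.hom.app ξ.base).toRingHom → φ = ψ := by
  constructor
  · intro h φ ψ e
    refine (toFib_bijective ξ B).1 (h ?_)
    rw [fibMap_toFib, fibMap_toFib]
    exact congrArg _ (Subtype.ext e)
  · intro h x y e
    obtain ⟨φ, rfl⟩ := (toFib_bijective ξ B).2 x
    obtain ⟨ψ, rfl⟩ := (toFib_bijective ξ B).2 y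
    rw [fibMap_toFib, fibMap_toFib] at e
    exact congrArg _ (h φ ψ (congrArg Subtype.val ((toFib_bijective ξ A).1 e)))

theorem fibMap_surjective_iff {A B : FEt X} (f : A ⟶ B) :
    Function.Surjective (ξ.fibMap f.hom) ↔ ∀ φ : PtHom ξ A.obj, ∃ ψ : PtHom ξ B.obj,
      ψ.1.comp (f.hom.app ξ.base).toRingHom = φ.1 := by
  constructor
  · intro h φ
    obtain ⟨y, hy⟩ := h (toFib ξ A.obj φ)
    obtain ⟨ψ, rfl⟩ := (toFib_bijective ξ B).2 y
    rw [fibMap_toFib] at hy
    exact ⟨ψ, congrArg Subtype.val ((toFib_bijective ξ A).1 hy)⟩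
  · intro h x
    obtain ⟨φ, rfl⟩ := (toFib_bijective ξ A).2 x
    obtain ⟨ψ, hψ⟩ := h φ
    exact ⟨toFib ξ B.obj ψ, (fibMap_toFib ξ f.hom ψ).trans (congrArg _ (Subtype.ext hψ))⟩

/-- Maps into an algebraically closed field extend along finite injective maps. -/
theorem exists_extend {A B : Type u} [CommRing A] [CommRing B] [Algebra A B] [Module.Finite A B]
    (hinj : Function.Injective (algebraMap A B)) (φ : A →+* Ω) :
    ∃ ψ : B →+* Ω, ψ.comp (algebraMap A B) = φ := by
  haveI : FaithfulSMul A B := (faithfulSMul_iff_algebraMap_injective A B).2 hinj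
  haveI : Algebra.IsIntegral A B := Algebra.IsIntegral.of_finite A B
  obtain ⟨P, hP⟩ := Algebra.IsIntegral.comap_surjective A B
    ⟨RingHom.ker φ, RingHom.ker_isPrime φ⟩
  obtain ⟨T, _, _, s, a, hc, -, -⟩ := exists_common (algebraMap A B) φ P ⟨⊥, Ideal.isPrime_bot⟩
    (hP.trans (PrimeSpectrum.ext rfl))
  letI : Algebra A Ω := φ.toAlgebra
  haveI : Nontrivial (Ω ⊗[A] B) := by
    obtain ⟨k, -, -⟩ := (isPO_tensor A Ω B).exists_lift a s hc.symm
    exact k.domain_nontrivial
  obtain ⟨m, hm⟩ := Ideal.exists_maximal (Ω ⊗[A] B)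
  letI := Ideal.Quotient.field m
  haveI : Module.Finite Ω ((Ω ⊗[A] B) ⧸ m) :=
    Module.Finite.of_surjective (Ideal.Quotient.mkₐ Ω m).toLinearMap Ideal.Quotient.mk_surjective
  haveI : Algebra.IsIntegral Ω ((Ω ⊗[A] B) ⧸ m) := Algebra.IsIntegral.of_finite _ _
  let e := RingEquiv.ofBijective (algebraMap Ω ((Ω ⊗[A] B) ⧸ m))
    IsAlgClosed.algebraMap_bijective_of_isIntegral
  refine ⟨e.symm.toRingHom.comp ((Ideal.Quotient.mk m).comp
    (Algebra.TensorProduct.includeRight : B →ₐ[A] Ω ⊗[A] B).toRingHom), RingHom.ext fun r => ?_⟩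
  simp only [RingHom.comp_apply, RingEquiv.toRingHom_eq_coe, RingEquiv.coe_toRingHom,
    RingEquiv.symm_apply_eq]
  exact congrArg (Ideal.Quotient.mk m) ((Algebra.TensorProduct.tmul_one_eq_one_tmul (A := Ω) (B := B) r).symm)

/-- An injective morphism of covers is surjective on fibres. -/
theorem fibMap_surjective_of_injective {A B : FEt X} (f : A ⟶ B)
    (hf : Function.Injective (f.hom.app ξ.base)) : Function.Surjective (ξ.fibMap f.hom) := by
  rw [fibMap_surjective_iff]
  intro φ
  haveI := (B.property.2 ξ.base).1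
  letI := (f.hom.app ξ.base).toRingHom.toAlgebra
  haveI : IsScalarTower (X.ring ξ.base) (A.obj.carrier ξ.base) (B.obj.carrier ξ.base) :=
    IsScalarTower.of_algebraMap_eq fun r => ((f.hom.app ξ.base).commutes r).symm
  haveI : Module.Finite (A.obj.carrier ξ.base) (B.obj.carrier ξ.base) :=
    Module.Finite.of_restrictScalars_finite (X.ring ξ.base) _ _
  obtain ⟨ψ, hψ⟩ := exists_extend (A := A.obj.carrier ξ.base) (B := B.obj.carrier ξ.base) hf φ.1
  refine ⟨⟨ψ, RingHom.ext fun r => ?_⟩, hψ⟩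
  rw [RingHom.comp_apply, ← (f.hom.app ξ.base).commutes r]
  exact (congr($hψ _)).trans congr($(φ.2) r)

theorem fibMap_injective_of_surjective {A B : FEt X} (f : A ⟶ B)
    (hf : Function.Surjective (f.hom.app ξ.base)) : Function.Injective (ξ.fibMap f.hom) := by
  rw [fibMap_injective_iff]
  intro φ ψ e
  refine Subtype.ext (RingHom.ext fun x => ?_)
  obtain ⟨a, rfl⟩ := hf x
  exact congr($e a)

/-- The fibre has as many points as the rank. -/
theorem card_fib (A : FEt X) :
    Nat.card (ξ.Fib A.obj) = rk A ξ.base ⟨RingHom.ker ξ.toField, RingHom.ker_isPrime _⟩ := by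
  letI : Algebra (X.ring ξ.base) Ω := ξ.toField.toAlgebra
  haveI := (A.property.2 ξ.base).1
  haveI := (A.property.2 ξ.base).2
  haveI : IsArtinianRing (Ω ⊗[X.ring ξ.base] A.obj.carrier ξ.base) := IsArtinianRing.of_finite Ω _
  haveI : Fintype (PrimeSpectrum (Ω ⊗[X.ring ξ.base] A.obj.carrier ξ.base)) := Fintype.ofFinite _
  have h := (Algebra.FormallyEtale.equivPiOfIsSepClosed Ω
    (Ω ⊗[X.ring ξ.base] A.obj.carrier ξ.base)).toLinearEquiv.finrank_eq
  rw [Module.finrank_fintype_fun_eq_card] at h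
  have hp : PrimeSpectrum.comap (algebraMap (X.ring ξ.base) Ω) (⟨⊥, Ideal.isPrime_bot⟩ : PrimeSpectrum Ω) =
      ⟨RingHom.ker ξ.toField, RingHom.ker_isPrime _⟩ := PrimeSpectrum.ext rfl
  show Nat.card (PrimeSpectrum (Ω ⊗[X.ring ξ.base] A.obj.carrier ξ.base)) = _
  rw [Nat.card_eq_fintype_card, ← h, rk, ← hp, ← Module.rankAtStalk_baseChange,
    Module.rankAtStalk_eq_finrank_of_free]
  rfl

theorem bijective_of_fibMap_bijective (hX : X.IsSchematic) (hw : X.IsWellConnected) {A B : FEt X}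
    (f : A ⟶ B) (hf : Function.Bijective (ξ.fibMap f.hom)) (p : X.pt) :
    Function.Bijective (f.hom.app p) := by
  obtain ⟨Q, g, h, hgh, hg, hh⟩ := exists_factor hX f
  have hcomp : ξ.fibMap f.hom = ξ.fibMap g.hom ∘ ξ.fibMap h.hom := by
    rw [← hgh]
    exact ξ.fibMap_comp g.hom h.hom
  have hgi := fibMap_injective_of_surjective ξ g (hg ξ.base)
  have hgb : Function.Bijective (ξ.fibMap g.hom) :=
    ⟨hgi, fun y => by obtain ⟨x, hx⟩ := hf.2 y; exact ⟨ξ.fibMap h.hom x, (congrFun hcomp x).symm.trans hx⟩⟩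
  have hhb : Function.Bijective (ξ.fibMap h.hom) :=
    ⟨fun x y e => hf.1 ((congrFun hcomp x).trans ((congrArg _ e).trans (congrFun hcomp y).symm)),
      fibMap_surjective_of_injective ξ h (hh ξ.base)⟩
  have rk_eq : ∀ {C D : FEt X} (k : C ⟶ D), Function.Bijective (ξ.fibMap k.hom) →
      ∀ P, rk C p P = rk D p P := fun {C D} k hk P => by
    rw [rk_const hw C p ξ.base P ⟨RingHom.ker ξ.toField, RingHom.ker_isPrime _⟩,
      rk_const hw D p ξ.base P ⟨RingHom.ker ξ.toField, RingHom.ker_isPrime _⟩, ← card_fib, ← card_fib]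
    exact (Nat.card_eq_of_bijective _ hk).symm
  haveI := hX.1.1 p
  haveI := (A.property.2 p).1
  haveI := (A.property.2 p).2
  haveI := (B.property.2 p).1
  haveI := (B.property.2 p).2
  haveI := (Q.property.2 p).1
  haveI := (Q.property.2 p).2
  rw [← hgh]
  show Function.Bijective (fun a => h.hom.app p (g.hom.app p a))
  exact Function.Bijective.comp (g := h.hom.app p) (f := g.hom.app p)
    (⟨hh p, surjective_of_injective_of_rank_eq (h.hom.app p) (hh p) (rk_eq h hhb)⟩ :
      Function.Bijective (h.hom.app p))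
    (⟨injective_of_surjective_of_rank_eq (g.hom.app p) (hg p) (rk_eq g hgb), hg p⟩ :
      Function.Bijective (g.hom.app p))

theorem reflectsIsomorphisms_fibFunctor (hX : X.IsSchematic) (hw : X.IsWellConnected) :
    ξ.fibFunctor.ReflectsIsomorphisms where
  reflects {A B} f _ := by
    haveI := isIso_of_bijective f.unop
      (bijective_of_fibMap_bijective ξ hX hw f.unop
        (ConcreteCategory.bijective_of_isIso (ξ.fibFunctor.map f)))
    exact (inferInstance : IsIso f.unop.op)

end Groth.Agent.SchFinLib
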