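import Groth.Agent.SchFinLib.Fiber
import Mathlib.CategoryTheory.Limits.Preserves.Shapes.Terminal
import Mathlib.CategoryTheory.Limits.Preserves.Shapes.BinaryProducts
import Mathlib.CategoryTheory.Limits.Constructions.FiniteProductsOfBinaryProducts
import Mathlib.CategoryTheory.Limits.Shapes.Pullback.IsPullback.Basic
import Mathlib.CategoryTheory.Limits.Opposites

/-!
# Exactness properties of the fibre functor
-/

set_option autoImplicit false
set_option linter.style.haveILetI false

open SchFin CategoryTheory CategoryTheory.Limits TensorProduct Opposite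

universe u

namespace Groth.Agent.SchFinLib

variable {X : RSpace.{u}} {Ω : Type u} [Field Ω] [IsAlgClosed Ω] (ξ : GeomPt X Ω)

theorem fibFunctor_map_apply {A B : (FEt X)ᵒᵖ} (f : A ⟶ B) (x : ξ.Fib A.unop.obj) :
    ξ.fibFunctor.map f x = ξ.fibMap f.unop.hom x := rfl

theorem unique_fib_str : Nonempty (Unique (ξ.Fib (strFEt X).obj)) := by
  let d : PtHom ξ (strFEt X).obj := ⟨ξ.toField, RingHom.comp_id _⟩
  haveI : Unique (PtHom ξ (strFEt X).obj) :=
    { default := d
      uniq := fun φ => Subtype.ext (RingHom.ext fun r => congr($(φ.2) r)) }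
  exact ⟨(fibEquiv ξ (strFEt X)).symm.unique⟩

theorem preservesTerminal : PreservesLimitsOfShape (Discrete PEmpty.{1}) ξ.fibFunctor := by
  haveI := (unique_fib_str ξ).some
  haveI : Unique (ξ.fibFunctor.obj (op (strFEt X))) := (unique_fib_str ξ).some
  have h' : IsTerminal (ξ.fibFunctor.obj (op (strFEt X))) :=
    IsTerminal.ofUniqueHom (fun Y => FintypeCat.homMk fun _ => default)
      fun Y m => FintypeCat.hom_ext _ _ fun y => Subsingleton.elim _ _
  haveI : PreservesLimit (Functor.empty.{0} (FEt X)ᵒᵖ) ξ.fibFunctor :=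
    preservesLimit_of_preserves_limit_cone (terminalOpOfInitial (strIsInitial (X := X)))
      ((isLimitMapConeEmptyConeEquiv _ _).symm h')
  exact preservesLimitsOfShape_pempty_of_preservesTerminal _

theorem isPullback_fib {A B C : FEt X} (f : A ⟶ B) (g : A ⟶ C) :
    IsPullback (ξ.fibFunctor.map (pushInr f g).op) (ξ.fibFunctor.map (pushInl f g).op)
      (ξ.fibFunctor.map g.op) (ξ.fibFunctor.map f.op) := by
  have w : (pushInr f g).op ≫ g.op = (pushInl f g).op ≫ f.op := by
    rw [← op_comp, ← op_comp, push_comm]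
  have key : ∀ (y : ξ.Fib C.obj) (x : ξ.Fib B.obj), ξ.fibMap g.hom y = ξ.fibMap f.hom x →
      ∃! z : ξ.Fib (pushFEt f g).obj,
        ξ.fibMap (pushInr f g).hom z = y ∧ ξ.fibMap (pushInl f g).hom z = x := by
    intro y x e
    obtain ⟨ψ, rfl⟩ := (toFib_bijective ξ C).2 y
    obtain ⟨φ, rfl⟩ := (toFib_bijective ξ B).2 x
    rw [fibMap_toFib, fibMap_toFib] at e
    have e' := congrArg Subtype.val ((toFib_bijective ξ A).1 e)
    obtain ⟨k, k1, k2⟩ := (pd f g ξ.base).isPO.exists_lift φ.1 ψ.1 e'
    let ω : PtHom ξ (pushFEt f g).obj := ⟨k, RingHom.ext fun r => by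
      show k (algebraMap _ (pd f g ξ.base).T r) = _
      rw [← (pd f g ξ.base).iB.commutes r]
      exact (congr($k1 _)).trans congr($(φ.2) r)⟩
    refine ⟨toFib ξ _ ω, ⟨(fibMap_toFib ξ (pushInr f g).hom ω).trans (congrArg _ (Subtype.ext k2)),
      (fibMap_toFib ξ (pushInl f g).hom ω).trans (congrArg _ (Subtype.ext k1))⟩, fun z hz => ?_⟩
    obtain ⟨ω', rfl⟩ := (toFib_bijective ξ (pushFEt f g)).2 z
    rw [fibMap_toFib, fibMap_toFib] at hz
    refine congrArg _ (Subtype.ext ((pd f g ξ.base).isPO.ext _ _ ?_ ?_))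
    · exact (congrArg Subtype.val ((toFib_bijective ξ C).1 hz.1)).trans k2.symm
    · exact (congrArg Subtype.val ((toFib_bijective ξ B).1 hz.2)).trans k1.symm
  refine ⟨⟨by rw [← Functor.map_comp, ← Functor.map_comp, w]⟩, ⟨PullbackCone.IsLimit.mk _
    (fun s => FintypeCat.homMk fun t => (key (s.fst t) (s.snd t) congr($(s.condition) t)).choose)
    (fun s => FintypeCat.hom_ext _ _ fun t =>
      (key (s.fst t) (s.snd t) congr($(s.condition) t)).choose_spec.1.1)
    (fun s => FintypeCat.hom_ext _ _ fun t =>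
      (key (s.fst t) (s.snd t) congr($(s.condition) t)).choose_spec.1.2)
    fun s m h1 h2 => FintypeCat.hom_ext _ _ fun t =>
      (key (s.fst t) (s.snd t) congr($(s.condition) t)).choose_spec.2 _
        ⟨congr($h1 t), congr($h2 t)⟩⟩⟩

theorem preservesPullbacks : PreservesLimitsOfShape WalkingCospan ξ.fibFunctor := by
  refine ⟨fun {K} => ?_⟩
  haveI : PreservesLimit (cospan (K.map WalkingCospan.Hom.inl) (K.map WalkingCospan.Hom.inr))
      ξ.fibFunctor := by
    let g := (K.map WalkingCospan.Hom.inl).unop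
    let f := (K.map WalkingCospan.Hom.inr).unop
    have h : IsPullback (pushInr f g).op (pushInl f g).op g.op f.op :=
      (IsPushout.of_isColimit (pushIsColimit f g)).op
    exact preservesLimit_of_preserves_limit_cone h.isLimit
      ((isLimitMapConePullbackConeEquiv _ h.w).symm (isPullback_fib ξ f g).isLimit)
  exact preservesLimit_of_iso_diagram _ (diagramIsoCospan K).symm

theorem isEmpty_fib_zero : IsEmpty (ξ.Fib (zeroFEt X).obj) := by
  refine ⟨fun z => ?_⟩
  obtain ⟨φ, -⟩ := (toFib_bijective ξ (zeroFEt X)).2 z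
  haveI := subsingleton_zeroFEt (X := X) ξ.base
  exact not_subsingleton Ω (subsingleton_of_zero_eq_one
    (by rw [← map_zero φ.1, ← map_one φ.1, Subsingleton.elim (0 : (zeroFEt X).obj.carrier ξ.base) 1]))

theorem fib_prod_bijective (A B : FEt X) :
    Function.Bijective (Sum.elim (ξ.fibMap (prodFst A B).hom) (ξ.fibMap (prodSnd A B).hom)) := by
  refine ⟨?_, fun z => ?_⟩
  · refine Function.Injective.sumElim
      (fibMap_injective_of_surjective ξ (prodFst A B) fun a => ⟨(a, 0), rfl⟩)
      (fibMap_injective_of_surjective ξ (prodSnd A B) fun b => ⟨(0, b), rfl⟩) fun x y e => ?_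
    obtain ⟨φ, rfl⟩ := (toFib_bijective ξ A).2 x
    obtain ⟨ψ, rfl⟩ := (toFib_bijective ξ B).2 y
    rw [fibMap_toFib, fibMap_toFib] at e
    have h := congr($(congrArg Subtype.val ((toFib_bijective ξ (prodFEt A B)).1 e))
      ((1, 0) : A.obj.carrier ξ.base × B.obj.carrier ξ.base))
    change φ.1 1 = ψ.1 0 at h
    rw [map_one, map_zero] at h
    exact one_ne_zero h
  · obtain ⟨φ, rfl⟩ := (toFib_bijective ξ (prodFEt A B)).2 z
    let χ : A.obj.carrier ξ.base × B.obj.carrier ξ.base →+* Ω := φ.1
    have hid : IsIdempotentElem (χ (1, 0)) :=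
      (show IsIdempotentElem ((1, 0) : A.obj.carrier ξ.base × B.obj.carrier ξ.base) by
        simp [IsIdempotentElem]).map χ
    rcases IsIdempotentElem.iff_eq_zero_or_one.1 hid with h0 | h1
    · have h1' : χ (0, 1) = 1 := by
        have := map_add χ (1, 0) (0, 1)
        rw [h0, zero_add, Prod.mk_add_mk, add_zero, zero_add] at this
        exact this.symm.trans (map_one χ)
      have key : ∀ x, χ x = χ (0, x.2) := fun x => by
        conv_lhs => rw [← mul_one (χ x), ← h1', ← map_mul]
        simp [Prod.mul_def]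
      let ψ : B.obj.carrier ξ.base →+* Ω :=
        { toFun := fun b => χ (0, b)
          map_one' := h1'
          map_mul' := fun a b => by rw [← map_mul]; simp
          map_zero' := map_zero χ
          map_add' := fun a b => by rw [← map_add]; simp }
      have hψ : ψ.comp (algebraMap (X.ring ξ.base) (B.obj.carrier ξ.base)) = ξ.toField :=
        RingHom.ext fun r => (key (algebraMap _ _ r, algebraMap _ _ r)).symm.trans congr($(φ.2) r)
      exact ⟨Sum.inr (toFib ξ B.obj ⟨ψ, hψ⟩), (fibMap_toFib ξ (prodSnd A B).hom _).trans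
        (congrArg _ (Subtype.ext (RingHom.ext fun x => (key x).symm)))⟩
    · have key : ∀ x, χ x = χ (x.1, 0) := fun x => by
        conv_lhs => rw [← mul_one (χ x), ← h1, ← map_mul]
        simp [Prod.mul_def]
      let ψ : A.obj.carrier ξ.base →+* Ω :=
        { toFun := fun a => χ (a, 0)
          map_one' := h1
          map_mul' := fun a b => by rw [← map_mul]; simp
          map_zero' := map_zero χ
          map_add' := fun a b => by rw [← map_add]; simp }
      have hψ : ψ.comp (algebraMap (X.ring ξ.base) (A.obj.carrier ξ.base)) = ξ.toField :=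
        RingHom.ext fun r => (key (algebraMap _ _ r, algebraMap _ _ r)).symm.trans congr($(φ.2) r)
      exact ⟨Sum.inl (toFib ξ A.obj ⟨ψ, hψ⟩), (fibMap_toFib ξ (prodFst A B).hom _).trans
        (congrArg _ (Subtype.ext (RingHom.ext fun x => (key x).symm)))⟩

/-- The coproduct in the opposite category. -/
noncomputable def opProdIsColimit (A B : FEt X) :
    IsColimit (BinaryCofan.mk (prodFst A B).op (prodSnd A B).op) :=
  BinaryCofan.IsColimit.mk _ (fun f g => ((prodIsLimit A B).lift (BinaryFan.mk f.unop g.unop)).op)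
    (fun f g => Quiver.Hom.unop_inj ((prodIsLimit A B).fac (BinaryFan.mk f.unop g.unop) ⟨WalkingPair.left⟩))
    (fun f g => Quiver.Hom.unop_inj ((prodIsLimit A B).fac (BinaryFan.mk f.unop g.unop) ⟨WalkingPair.right⟩))
    fun f g m h1 h2 => Quiver.Hom.unop_inj ((prodIsLimit A B).uniq (BinaryFan.mk f.unop g.unop) m.unop
      fun j => by
        rcases j with ⟨⟨⟩⟩
        · exact congrArg Quiver.Hom.unop h1
        · exact congrArg Quiver.Hom.unop h2)

theorem preservesBinaryCoproducts : PreservesColimitsOfShape (Discrete WalkingPair) ξ.fibFunctor := by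
  refine ⟨fun {K} => ?_⟩
  let A := (K.obj ⟨WalkingPair.left⟩).unop
  let B := (K.obj ⟨WalkingPair.right⟩).unop
  let e := Equiv.ofBijective _ (fib_prod_bijective ξ A B)
  have h' : IsColimit (BinaryCofan.mk (ξ.fibFunctor.map (prodFst A B).op)
      (ξ.fibFunctor.map (prodSnd A B).op)) :=
    BinaryCofan.IsColimit.mk _ (fun f g => FintypeCat.homMk fun z => Sum.elim f g (e.symm z))
      (fun f g => FintypeCat.hom_ext _ _ fun a =>
        congrArg (Sum.elim f g) (e.symm_apply_apply (Sum.inl a)))
      (fun f g => FintypeCat.hom_ext _ _ fun a =>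
        congrArg (Sum.elim f g) (e.symm_apply_apply (Sum.inr a)))
      fun f g m h1 h2 => FintypeCat.hom_ext _ _ fun z => by
        obtain ⟨w, rfl⟩ := e.surjective z
        refine Eq.trans ?_ (congrArg (Sum.elim f g) (e.symm_apply_apply w)).symm
        cases w with
        | inl a => exact congr($h1 a)
        | inr b => exact congr($h2 b)
  haveI : PreservesColimit (pair (K.obj ⟨WalkingPair.left⟩) (K.obj ⟨WalkingPair.right⟩)) ξ.fibFunctor :=
    preservesColimit_of_preserves_colimit_cocone (opProdIsColimit A B)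
      ((isColimitMapCoconeBinaryCofanEquiv _ _ _).symm h')
  exact preservesColimit_of_iso_diagram _ (diagramIsoPair K).symm

theorem preservesInitial : PreservesColimitsOfShape (Discrete PEmpty.{1}) ξ.fibFunctor := by
  haveI := isEmpty_fib_zero ξ
  haveI : IsEmpty (ξ.fibFunctor.obj (op (zeroFEt X))) := isEmpty_fib_zero ξ
  have h' : IsInitial (ξ.fibFunctor.obj (op (zeroFEt X))) :=
    IsInitial.ofUniqueHom (fun Y => FintypeCat.homMk fun z => isEmptyElim z)
      fun Y m => FintypeCat.hom_ext _ _ fun z => isEmptyElim z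
  haveI : PreservesColimit (Functor.empty.{0} (FEt X)ᵒᵖ) ξ.fibFunctor :=
    preservesColimit_of_preserves_colimit_cocone (initialOpOfTerminal (zeroIsTerminal (X := X)))
      ((isColimitMapCoconeEmptyCoconeEquiv _ _).symm h')
  exact preservesColimitsOfShape_pempty_of_preservesInitial _

theorem hasFiniteCoproducts_op : HasFiniteCoproducts (FEt X)ᵒᵖ := by
  haveI := (initialOpOfTerminal (zeroIsTerminal (X := X))).hasInitial
  haveI : ∀ {A B : (FEt X)ᵒᵖ}, HasColimit (pair A B) := fun {A B} =>
    HasColimit.mk ⟨_, opProdIsColimit A.unop B.unop⟩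
  haveI : HasBinaryCoproducts (FEt X)ᵒᵖ := hasBinaryCoproducts_of_hasColimit_pair _
  exact hasFiniteCoproducts_of_has_binary_and_initial

theorem preservesFiniteCoproducts : PreservesFiniteCoproducts ξ.fibFunctor := by
  haveI := hasFiniteCoproducts_op (X := X)
  haveI := preservesBinaryCoproducts ξ
  haveI := preservesInitial ξ
  exact ⟨fun n => PreservesFiniteCoproducts.of_preserves_binary_and_initial _ (Fin n)⟩

theorem preservesEpis (hX : X.IsSchematic) : ξ.fibFunctor.PreservesEpimorphisms where
  preserves {A B} f _ := by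
    haveI : Mono f.unop := CategoryTheory.unop_mono_of_epi f
    exact ConcreteCategory.epi_of_surjective (ξ.fibFunctor.map f)
      (fibMap_surjective_of_injective ξ f.unop (injective_of_mono hX f.unop ξ.base))

end Groth.Agent.SchFinLib
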