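import Mathlib.RingTheory.Flat.FaithfullyFlat.Algebra
import Mathlib.RingTheory.Ideal.IdempotentFG
import Mathlib.RingTheory.Localization.BaseChange
import Mathlib.RingTheory.LocalProperties.Basic
import Mathlib.RingTheory.LocalRing.Module
import Mathlib.RingTheory.Etale.Basic
import Mathlib.RingTheory.Smooth.Flat
import Mathlib.RingTheory.Localization.Away.Lemmas
import Mathlib.RingTheory.Noetherian.Basic

/-!
# Maps of finite étale algebras: the kernel is generated by an idempotent
-/

set_option autoImplicit false
set_option linter.style.haveILetI false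

open TensorProduct

universe u

namespace Groth.Agent.SchFinLib

theorem exists_idem_ker {A B : Type u} [CommRing A] [CommRing B] [Algebra A B] [IsNoetherianRing A]
    [Module.Finite A B] [Module.Flat A B] :
    ∃ e : A, IsIdempotentElem e ∧ RingHom.ker (algebraMap A B) = Ideal.span {e} := by
  let K := RingHom.ker (algebraMap A B)
  suffices h : IsIdempotentElem K by
    obtain ⟨e, he, hK⟩ := (Ideal.isIdempotentElem_iff_of_fg K (IsNoetherian.noetherian K)).1 h
    exact ⟨e, he, hK⟩
  refine le_antisymm Ideal.mul_le_left (Ideal.le_of_localization_maximal fun P hP => ?_)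
  let L := Localization.AtPrime P
  rcases subsingleton_or_nontrivial (L ⊗[A] B) with hs | hn
  · obtain ⟨u, hu⟩ := (IsLocalizedModule.eq_zero_iff P.primeCompl (TensorProduct.mk A L B 1)).1
      (Subsingleton.elim (TensorProduct.mk A L B 1 (1 : B)) 0)
    have huK : (u : A) ∈ K := by
      show algebraMap A B u = 0
      rw [Algebra.algebraMap_eq_smul_one]
      exact hu
    rw [Ideal.eq_top_of_isUnit_mem _ (Ideal.mem_map_of_mem _ (Ideal.mul_mem_mul huK huK))
      (IsLocalization.map_units L (u * u))]
    exact le_top
  · haveI : Module.Free L (L ⊗[A] B) := Module.free_of_flat_of_isLocalRing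
    have hbot : K.map (algebraMap A L) ≤ ⊥ := Ideal.map_le_iff_le_comap.2 fun a ha => by
      show algebraMap A L a = 0
      refine FaithfulSMul.algebraMap_injective L (L ⊗[A] B) ?_
      rw [map_zero, ← IsScalarTower.algebraMap_apply A L (L ⊗[A] B),
        ← Algebra.TensorProduct.includeRight.commutes a,
        show algebraMap A B a = 0 from ha, map_zero]
    exact hbot.trans bot_le

section

variable (R : Type u) {A B : Type u} [CommRing R] [CommRing A] [CommRing B] [Algebra R A] [Algebra R B]
  [Algebra A B] [IsScalarTower R A B]

/-- A map of finite étale algebras is finite, étale and flat. -/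
theorem finite_etale_of_tower [Algebra.Etale R A] [Algebra.Etale R B] [Module.Finite R B] :
    Module.Finite A B ∧ Algebra.Etale A B ∧ Module.Flat A B := by
  haveI : Algebra.Etale A B := Algebra.Etale.of_restrictScalars R A B
  exact ⟨Module.Finite.of_restrictScalars_finite R A B, inferInstance, inferInstance⟩

theorem exists_idem_ker_algHom [IsNoetherianRing R] [Algebra.Etale R A] [Algebra.Etale R B]
    [Module.Finite R A] [Module.Finite R B] :
    ∃ e : A, IsIdempotentElem e ∧ RingHom.ker (algebraMap A B) = Ideal.span {e} := by
  obtain ⟨_, _, _⟩ := finite_etale_of_tower R (A := A) (B := B)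
  haveI : IsNoetherianRing A := IsNoetherianRing.of_finite R A
  exact exists_idem_ker

/-- A quotient by an idempotent of a finite étale algebra is finite étale. -/
theorem finite_etale_quotient [Algebra.Etale R A] [Module.Finite R A] (e : A)
    (he : IsIdempotentElem e) :
    Module.Finite R (A ⧸ Ideal.span {e}) ∧ Algebra.Etale R (A ⧸ Ideal.span {e}) := by
  haveI : IsLocalization.Away (1 - e) (A ⧸ Ideal.span {e}) := by
    have := IsLocalization.Away.quotient_of_isIdempotentElem he.one_sub
    rwa [sub_sub_cancel] at this
  haveI : Algebra.Etale A (A ⧸ Ideal.span {e}) := Algebra.Etale.of_isLocalizationAway (1 - e)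
  exact ⟨Module.Finite.of_surjective (Ideal.Quotient.mkₐ R _).toLinearMap Ideal.Quotient.mk_surjective,
    Algebra.Etale.comp R A _⟩

end

theorem eq_of_span_idem_eq {A : Type u} [CommRing A] {e e' : A} (he : IsIdempotentElem e)
    (he' : IsIdempotentElem e') (h : Ideal.span {e} = Ideal.span {e'}) : e = e' := by
  obtain ⟨a, ha⟩ := Ideal.mem_span_singleton'.1 (h ▸ Ideal.mem_span_singleton_self e)
  obtain ⟨b, hb⟩ := Ideal.mem_span_singleton'.1 (h.symm ▸ Ideal.mem_span_singleton_self e')
  calc e = e * e' := by rw [← ha, mul_assoc, he'.eq]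
    _ = e' := by rw [← hb, mul_comm e, mul_assoc, he.eq]

end Groth.Agent.SchFinLib
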