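import Groth.Agent.SchFinLib.Schem
import Groth.Agent.SchFinLib.Idem
import Mathlib.RingTheory.TensorProduct.IsBaseChangePi
import Mathlib.RingTheory.Etale.Pi
import Mathlib.Algebra.Category.CommAlgCat.Basic
import Mathlib.RingTheory.Finiteness.Prod
import Mathlib.CategoryTheory.Limits.Shapes.BinaryProducts
import Mathlib.CategoryTheory.Limits.Shapes.Pullback.HasPullback
import Mathlib.CategoryTheory.Limits.Shapes.Terminal

/-!
# Constructions in the category of étale covers
-/

set_option autoImplicit false
set_option linter.style.haveILetI false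

open SchFin CategoryTheory CategoryTheory.Limits TensorProduct

universe u

namespace Groth.Agent.SchFinLib

variable {X : RSpace.{u}}

theorem isQcoh_iff (A : Alg X) : A.IsQcoh ↔ ∀ (p q : X.pt) (h : p ≤ q),
    IsPO (X.res h) (algebraMap (X.ring p) (A.carrier p)) (A.res h)
      (algebraMap (X.ring q) (A.carrier q)) :=
  ⟨fun hA p q h => isPO_of_isBCAlong (A := A.carrier p) (B := A.carrier q) (A.toMod.res h) (A.res h) (fun _ => rfl) (hA p q h),
    fun hA p q h => isBCAlong_of_isPO (A := A.carrier p) (B := A.carrier q) (A.toMod.res h) (A.res h) (fun _ => rfl) (hA p q h)⟩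

theorem isPO_of_fet (A : FEt X) {p q : X.pt} (h : p ≤ q) :
    IsPO (X.res h) (algebraMap (X.ring p) (A.obj.carrier p)) (A.obj.res h)
      (algebraMap (X.ring q) (A.obj.carrier q)) :=
  (isQcoh_iff _).1 A.property.1 p q h

theorem app_res {A B : Alg X} (f : A ⟶ B) {p q : X.pt} (h : p ≤ q) (a : A.carrier p) :
    f.app q (A.res h a) = B.res h (f.app p a) := (f.compat h a).symm

/-- The compatibility of a family of algebra maps may be checked on generators of the pushouts. -/
theorem hom_eq {A B : FEt X} {f g : A ⟶ B} (h : ∀ p (a : A.obj.carrier p), f.hom.app p a = g.hom.app p a) :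
    f = g :=
  ObjectProperty.hom_ext _ (Alg.hom_ext _ _ fun p => AlgHom.ext (h p))

/-! ### Quotient by a compatible family of idempotents -/

section Quot

variable (A : FEt X) (e : ∀ p, A.obj.carrier p) (he : ∀ p, IsIdempotentElem (e p))
  (hc : ∀ p q (h : p ≤ q), A.obj.res h (e p) = e q)

/-- The quotient algebra. -/
noncomputable def quotAlg : Alg X where
  carrier p := A.obj.carrier p ⧸ Ideal.span {e p}
  res {p q} h := Ideal.Quotient.lift _ ((Ideal.Quotient.mk _).comp (A.obj.res h)) fun x hx => by
    obtain ⟨a, rfl⟩ := Ideal.mem_span_singleton'.1 hx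
    rw [RingHom.comp_apply, Ideal.Quotient.eq_zero_iff_mem, map_mul, hc p q h]
    exact Ideal.mul_mem_left _ _ (Ideal.mem_span_singleton_self _)
  res_algebraMap {p q} h a := congrArg (Ideal.Quotient.mk _) (A.obj.res_algebraMap h a)
  res_self p b := by
    obtain ⟨b, rfl⟩ := Ideal.Quotient.mk_surjective b
    exact congrArg (Ideal.Quotient.mk _) (A.obj.res_self p b)
  res_comp {p q s} h h' b := by
    obtain ⟨b, rfl⟩ := Ideal.Quotient.mk_surjective b
    exact congrArg (Ideal.Quotient.mk _) (A.obj.res_comp h h' b)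

/-- The quotient étale cover. -/
noncomputable def quotFEt : FEt X :=
  ⟨quotAlg A e hc, (isQcoh_iff _).2 fun p q h => by
    refine ⟨RingHom.ext fun r => (quotAlg A e hc).res_algebraMap h r, fun a b h1 h2 => ?_,
      fun {T} _ s a hsa => ?_⟩
    · have := (isPO_of_fet A h).ext (a.comp (Ideal.Quotient.mk _)) (b.comp (Ideal.Quotient.mk _))
        (RingHom.ext fun x => congr($h1 (Ideal.Quotient.mk _ x))) (RingHom.ext fun x => congr($h2 x))
      exact Ideal.Quotient.ringHom_ext this
    · obtain ⟨k, hk1, hk2⟩ := (isPO_of_fet A h).exists_lift s (a.comp (Ideal.Quotient.mk _))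
        (RingHom.ext fun r => congr($hsa r))
      have hk : ∀ x ∈ Ideal.span {e q}, k x = 0 := fun x hx => by
        obtain ⟨y, rfl⟩ := Ideal.mem_span_singleton'.1 hx
        rw [map_mul, ← hc p q h, show k (A.obj.res h (e p)) = a (Ideal.Quotient.mk _ (e p)) from
          congr($hk2 (e p))]
        exact (congrArg (k y * ·) ((congrArg a (Ideal.Quotient.eq_zero_iff_mem.2
          (Ideal.mem_span_singleton_self _))).trans (map_zero a))).trans (mul_zero _)
      refine ⟨Ideal.Quotient.lift _ k hk, RingHom.ext fun x => congr($hk1 x),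
        Ideal.Quotient.ringHom_ext (RingHom.ext fun x => congr($hk2 x))⟩,
  fun p => by
    haveI := (A.property.2 p).1
    haveI := (A.property.2 p).2
    exact finite_etale_quotient (X.ring p) (e p) (he p)⟩

/-- The projection to the quotient. -/
noncomputable def quotπ : A ⟶ quotFEt A e he hc :=
  ObjectProperty.homMk ⟨fun p => Ideal.Quotient.mkₐ (X.ring p) _, fun _ _ => rfl⟩

theorem quotπ_surjective (p : X.pt) : Function.Surjective ((quotπ A e he hc).hom.app p) :=
  Ideal.Quotient.mk_surjective

/-- The map out of the quotient. -/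
noncomputable def quotDesc {B : FEt X} (g : A ⟶ B) (hg : ∀ p, g.hom.app p (e p) = 0) :
    quotFEt A e he hc ⟶ B :=
  ObjectProperty.homMk ⟨fun p => Ideal.Quotient.liftₐ _ (g.hom.app p) fun x hx => by
    obtain ⟨y, rfl⟩ := Ideal.mem_span_singleton'.1 hx
    rw [map_mul, hg, mul_zero], fun {p q} h b => by
    obtain ⟨b, rfl⟩ := Ideal.Quotient.mk_surjective b
    exact g.hom.compat h b⟩

theorem quotπ_desc {B : FEt X} (g : A ⟶ B) (hg : ∀ p, g.hom.app p (e p) = 0) :
    quotπ A e he hc ≫ quotDesc A e he hc g hg = g :=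
  hom_eq fun _ _ => rfl

end Quot

/-! ### The initial object and the terminal object -/

/-- The structure rings. -/
noncomputable def strFEt (X : RSpace.{u}) : FEt X :=
  ⟨Alg.str X, (isQcoh_iff _).2 fun p q h =>
    ⟨RingHom.ext fun _ => rfl, fun a b _ h2 => RingHom.ext fun x => congr($h2 x),
      fun s a e => ⟨s, RingHom.ext fun _ => rfl, RingHom.ext fun x => (congr($e x)).symm⟩⟩,
    fun p => ⟨inferInstanceAs (Module.Finite (X.ring p) (X.ring p)),
      inferInstanceAs (Algebra.Etale (X.ring p) (X.ring p))⟩⟩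

/-- The map out of the structure rings. -/
noncomputable def fromStr (A : FEt X) : strFEt X ⟶ A :=
  ObjectProperty.homMk ⟨fun p => Algebra.ofId (X.ring p) _, fun h b => A.obj.res_algebraMap h b⟩

theorem fromStr_unique {A : FEt X} (f : strFEt X ⟶ A) : f = fromStr A :=
  hom_eq fun p a => (f.hom.app p).commutes a

noncomputable def strIsInitial : IsInitial (strFEt X) :=
  IsInitial.ofUniqueHom fromStr fun _ f => fromStr_unique f

/-- The zero cover. -/
noncomputable def zeroFEt (X : RSpace.{u}) : FEt X :=
  quotFEt (strFEt X) (fun _ => 1) (fun _ => IsIdempotentElem.one) fun _ _ h => map_one (X.res h)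

theorem subsingleton_zeroFEt (p : X.pt) : Subsingleton ((zeroFEt X).obj.carrier p) :=
  Ideal.Quotient.subsingleton_iff.2 (Ideal.span_singleton_one)

/-- The map to the zero cover. -/
noncomputable def toZero (A : FEt X) : A ⟶ zeroFEt X :=
  haveI := fun p => subsingleton_zeroFEt (X := X) p
  ObjectProperty.homMk ⟨fun p =>
    { toFun := fun _ => 0
      map_one' := Subsingleton.elim _ _
      map_mul' := fun _ _ => Subsingleton.elim _ _
      map_zero' := rfl
      map_add' := fun _ _ => Subsingleton.elim _ _
      commutes' := fun _ => Subsingleton.elim _ _ }, fun {_ q} _ _ => (subsingleton_zeroFEt q).elim _ _⟩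

noncomputable def zeroIsTerminal : IsTerminal (zeroFEt X) :=
  IsTerminal.ofUniqueHom toZero fun _ _ => hom_eq fun p _ => (subsingleton_zeroFEt p).elim _ _

/-! ### Products -/

theorem etale_prod (R A B : Type u) [CommRing R] [CommRing A] [CommRing B] [Algebra R A]
    [Algebra R B] [Algebra.Etale R A] [Algebra.Etale R B] : Algebra.Etale R (A × B) := by
  let T : Bool → CommAlgCat.{u} R := fun b => bif b then CommAlgCat.of R A else CommAlgCat.of R B
  haveI : ∀ b, Algebra.Etale R (T b) := fun b => by
    cases b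
    · exact ‹Algebra.Etale R B›
    · exact ‹Algebra.Etale R A›
  let e : (∀ b, (T b : Type u)) ≃ₐ[R] A × B :=
    AlgEquiv.ofAlgHom
      ((Pi.evalAlgHom R (fun b => (T b : Type u)) true).prod
        (Pi.evalAlgHom R (fun b => (T b : Type u)) false))
      (AlgHom.pi fun b => match b with
        | true => AlgHom.fst R A B
        | false => AlgHom.snd R A B)
      (AlgHom.ext fun _ => rfl)
      (AlgHom.ext fun f => funext fun b => by cases b <;> rfl)
  exact Algebra.Etale.of_equiv e

/-- The product algebra. -/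
def prodAlg (A B : Alg X) : Alg X where
  carrier p := A.carrier p × B.carrier p
  res h := RingHom.prodMap (A.res h) (B.res h)
  res_algebraMap h a := Prod.ext (A.res_algebraMap h a) (B.res_algebraMap h a)
  res_self p b := Prod.ext (A.res_self p b.1) (B.res_self p b.2)
  res_comp h h' b := Prod.ext (A.res_comp h h' b.1) (B.res_comp h h' b.2)

theorem isBCAlong_prod {R S : Type u} [CommRing R] [CommRing S] {g : R →+* S}
    {M N M' N' : Type u} [AddCommGroup M] [AddCommGroup N] [AddCommGroup M'] [AddCommGroup N']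
    [Module R M] [Module S N] [Module R M'] [Module S N'] (F : M →ₛₗ[g] N) (F' : M' →ₛₗ[g] N')
    (H : (M × M') →ₛₗ[g] (N × N')) (hH : ∀ x, H x = (F x.1, F' x.2)) (hF : IsBCAlong g F)
    (hF' : IsBCAlong g F') : IsBCAlong g H := by
  letI : Algebra R S := g.toAlgebra
  letI : Module R N := Module.compHom N g
  letI : Module R N' := Module.compHom N' g
  haveI : IsScalarTower R S N := IsScalarTower.of_algebraMap_smul fun _ _ => rfl
  haveI : IsScalarTower R S N' := IsScalarTower.of_algebraMap_smul fun _ _ => rfl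
  unfold IsBCAlong at hF hF'
  refine IsBaseChange.of_equiv (TensorProduct.prodRight R S S M M' ≪≫ₗ hF.equiv.prodCongr hF'.equiv)
    fun x => ?_
  simp only [LinearMap.coe_mk, AddHom.coe_mk, hH]
  simp [IsBaseChange.equiv_tmul]

theorem isQcoh_prodAlg {A B : Alg X} (hA : A.IsQcoh) (hB : B.IsQcoh) : (prodAlg A B).IsQcoh :=
  fun p q h => isBCAlong_prod (A.toMod.res h) (B.toMod.res h) _ (fun _ => rfl) (hA p q h) (hB p q h)

/-- The product cover. -/
noncomputable def prodFEt (A B : FEt X) : FEt X :=
  ⟨prodAlg A.obj B.obj, isQcoh_prodAlg A.property.1 B.property.1, fun p => by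
    haveI := (A.property.2 p).1
    haveI := (A.property.2 p).2
    haveI := (B.property.2 p).1
    haveI := (B.property.2 p).2
    exact ⟨Module.Finite.prod (R := X.ring p) (M := A.obj.carrier p) (N := B.obj.carrier p),
      etale_prod (X.ring p) (A.obj.carrier p) (B.obj.carrier p)⟩⟩

noncomputable def prodFst (A B : FEt X) : prodFEt A B ⟶ A :=
  ObjectProperty.homMk ⟨fun p => AlgHom.fst (X.ring p) _ _, fun _ _ => rfl⟩

noncomputable def prodSnd (A B : FEt X) : prodFEt A B ⟶ B :=
  ObjectProperty.homMk ⟨fun p => AlgHom.snd (X.ring p) _ _, fun _ _ => rfl⟩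

noncomputable def prodIsLimit (A B : FEt X) :
    IsLimit (BinaryFan.mk (prodFst A B) (prodSnd A B)) :=
  BinaryFan.IsLimit.mk _
    (fun f g => ObjectProperty.homMk ⟨fun p => (f.hom.app p).prod (g.hom.app p),
      fun h b => Prod.ext (f.hom.compat h b) (g.hom.compat h b)⟩)
    (fun _ _ => hom_eq fun _ _ => rfl) (fun _ _ => hom_eq fun _ _ => rfl)
    fun f g m hf hg => hom_eq fun p a => Prod.ext
      (show (m ≫ prodFst A B).hom.app p a = f.hom.app p a by rw [show m ≫ prodFst A B = f from hf])
      (show (m ≫ prodSnd A B).hom.app p a = g.hom.app p a by rw [show m ≫ prodSnd A B = g from hg])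

end Groth.Agent.SchFinLib
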