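import Groth.Prelude.Def_SchFin2
import Mathlib.RingTheory.Flat.FaithfullyFlat.Descent
import Mathlib.RingTheory.Flat.FaithfullyFlat.Algebra
import Mathlib.RingTheory.Flat.Localization
import Mathlib.RingTheory.IsTensorProduct

/-!
# Pushout squares of commutative rings and base change along a ring map
-/

set_option autoImplicit false
set_option linter.style.haveILetI false

open TensorProduct

universe u

namespace Groth.Agent.SchFinLib

variable {R S A B : Type u} [CommRing R] [CommRing S] [CommRing A] [CommRing B]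

/-- A pushout square of commutative rings, by its universal property. -/
structure IsPO (f : R →+* S) (g : R →+* A) (f' : A →+* B) (g' : S →+* B) : Prop where
  comm : f'.comp g = g'.comp f
  ext : ∀ {T : Type u} [CommRing T] (a b : B →+* T),
    a.comp f' = b.comp f' → a.comp g' = b.comp g' → a = b
  exists_lift : ∀ {T : Type u} [CommRing T] (s : S →+* T) (a : A →+* T),
    a.comp g = s.comp f → ∃ h : B →+* T, h.comp g' = s ∧ h.comp f' = a

/-- An epimorphism of commutative rings. -/
structure IsEpiHom (f : R →+* S) : Prop where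
  eq_of_comp : ∀ {T : Type u} [CommRing T] (a b : S →+* T), a.comp f = b.comp f → a = b

theorem IsEpiHom.comp {f : R →+* S} {g : S →+* A} (hf : IsEpiHom f) (hg : IsEpiHom g) :
    IsEpiHom (g.comp f) := ⟨fun a b h =>
  hg.eq_of_comp a b (hf.eq_of_comp _ _ (by rw [RingHom.comp_assoc, RingHom.comp_assoc]; exact h))⟩

theorem IsEpiHom.of_comp {f : R →+* S} {g : S →+* A} (h : IsEpiHom (g.comp f)) : IsEpiHom g :=
  ⟨fun a b e => h.eq_of_comp a b (by rw [← RingHom.comp_assoc, ← RingHom.comp_assoc, e])⟩

theorem IsEpiHom.of_surjective {f : R →+* S} (hf : Function.Surjective f) : IsEpiHom f :=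
  ⟨fun a b h => RingHom.ext fun x => by
    obtain ⟨r, rfl⟩ := hf x
    exact congr($h r)⟩

theorem isEpiHom_algebraMap_localization (R : Type u) {L : Type u} [CommRing R] [CommRing L]
    [Algebra R L] (M : Submonoid R) [IsLocalization M L] : IsEpiHom (algebraMap R L) :=
  ⟨fun _ _ h => IsLocalization.ringHom_ext M h⟩

/-- A faithfully flat epimorphism is bijective. -/
theorem bijective_of_isEpiHom_of_faithfullyFlat [Algebra R S] [Module.FaithfullyFlat R S]
    (h : IsEpiHom (algebraMap R S)) : Function.Bijective (algebraMap R S) := by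
  refine Module.FaithfullyFlat.bijective_of_tensorProduct (S := S) ⟨?_, ?_⟩
  · intro x y hxy
    simpa using congr(Algebra.TensorProduct.lmul' R $hxy)
  · have key : ∀ t : S, (1 : S) ⊗ₜ[R] t = t ⊗ₜ[R] 1 := fun t => by
      have e := h.eq_of_comp (Algebra.TensorProduct.includeRight : S →ₐ[R] S ⊗[R] S).toRingHom
        (Algebra.TensorProduct.includeLeft : S →ₐ[R] S ⊗[R] S).toRingHom
        (RingHom.ext fun r => by simp)
      exact congr($e t)
    intro x
    induction x using TensorProduct.induction_on with
    | zero => exact ⟨0, map_zero _⟩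
    | add a b ha hb =>
      obtain ⟨a', rfl⟩ := ha
      obtain ⟨b', rfl⟩ := hb
      exact ⟨a' + b', map_add _ _ _⟩
    | tmul s t =>
      refine ⟨s * t, ?_⟩
      rw [Algebra.TensorProduct.algebraMap_apply, Algebra.algebraMap_self, RingHom.id_apply,
        show s ⊗ₜ[R] t = (s ⊗ₜ[R] (1 : S)) * ((1 : S) ⊗ₜ[R] t) by simp, key,
        Algebra.TensorProduct.tmul_mul_tmul, mul_one]

theorem bijective_of_isEpiHom_field {K L : Type u} [Field K] [Field L] (f : K →+* L)
    (h : IsEpiHom f) : Function.Bijective f := by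
  letI := f.toAlgebra
  exact bijective_of_isEpiHom_of_faithfullyFlat h

namespace IsPO

variable {f : R →+* S} {g : R →+* A} {f' : A →+* B} {g' : S →+* B}

theorem symm (h : IsPO f g f' g') : IsPO g f g' f' where
  comm := h.comm.symm
  ext a b h1 h2 := h.ext a b h2 h1
  exists_lift s a e := by
    obtain ⟨k, h1, h2⟩ := h.exists_lift a s e.symm
    exact ⟨k, h2, h1⟩

theorem comm_apply (h : IsPO f g f' g') (r : R) : f' (g r) = g' (f r) := congr($(h.comm) r)

/-- Transport along isomorphisms of the second and fourth corners. -/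
theorem congr (h : IsPO f g f' g') {A' B' : Type u} [CommRing A'] [CommRing B'] (eA : A ≃+* A')
    (eB : B ≃+* B') (g₁ : R →+* A') (f₁ : A' →+* B') (g₁' : S →+* B')
    (h1 : ∀ r, g₁ r = eA (g r)) (h2 : ∀ a, f₁ (eA a) = eB (f' a)) (h3 : ∀ s, g₁' s = eB (g' s)) :
    IsPO f g₁ f₁ g₁' where
  comm := RingHom.ext fun r => by
    simp [h1, h2, h3, h.comm_apply]
  ext a b e1 e2 := by
    have := h.ext (a.comp eB.toRingHom) (b.comp eB.toRingHom)
      (RingHom.ext fun x => by
        have := congr($e1 (eA x))
        simpa [h2] using this)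
      (RingHom.ext fun x => by
        have := congr($e2 x)
        simpa [h3] using this)
    refine RingHom.ext fun x => ?_
    obtain ⟨y, rfl⟩ := eB.surjective x
    exact congr($this y)
  exists_lift s a e := by
    obtain ⟨k, hk1, hk2⟩ := h.exists_lift s (a.comp eA.toRingHom)
      (RingHom.ext fun r => by have := congr($e r); simpa [h1] using this)
    refine ⟨k.comp eB.symm.toRingHom, RingHom.ext fun x => ?_, RingHom.ext fun x => ?_⟩
    · simpa [h3] using congr($hk1 x)
    · obtain ⟨y, rfl⟩ := eA.surjective x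
      simpa [h2] using congr($hk2 y)

/-- Pasting along the second map. -/
theorem paste {U C : Type u} [CommRing U] [CommRing C] (h : IsPO f g f' g') {e : S →+* U}
    {e' : B →+* C} {k : U →+* C} (h' : IsPO e g' e' k) :
    IsPO (e.comp f) g (e'.comp f') k where
  comm := RingHom.ext fun r => by
    simp [h.comm_apply, h'.comm_apply]
  ext a b e1 e2 := h'.ext a b (h.ext _ _ (by rw [RingHom.comp_assoc, RingHom.comp_assoc]; exact e1)
    (RingHom.ext fun x => by
      have := congr($e2 (e x))
      simpa [h'.comm_apply] using this)) e2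
  exists_lift s a he := by
    obtain ⟨m, hm1, hm2⟩ := h.exists_lift (s.comp e) a (by rw [he, RingHom.comp_assoc])
    obtain ⟨n, hn1, hn2⟩ := h'.exists_lift s m hm1
    exact ⟨n, hn1, by rw [← RingHom.comp_assoc, hn2, hm2]⟩

theorem isEpiHom (h : IsPO f f (RingHom.id S) (RingHom.id S)) : IsEpiHom f := ⟨fun a b e => by
  obtain ⟨k, h1, h2⟩ := h.exists_lift b a e
  exact h2.symm.trans h1⟩

theorem eq_of_subsingleton_left (h : IsPO f g f' g') [Subsingleton A] {T : Type u} [CommRing T]
    (s : B →+* T) : Subsingleton T :=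
  subsingleton_of_zero_eq_one (by
    rw [← map_zero (s.comp f'), ← map_one (s.comp f'), Subsingleton.elim (0 : A) 1])

/-- Two primes with the same contraction are the kernels of maps to a common domain. -/
theorem _root_.Groth.Agent.SchFinLib.exists_common (f : R →+* S) (g : R →+* A) (P : PrimeSpectrum S)
    (Q : PrimeSpectrum A) (e : PrimeSpectrum.comap f P = PrimeSpectrum.comap g Q) :
    ∃ (T : Type u) (_ : CommRing T) (_ : IsDomain T) (s : S →+* T) (a : A →+* T),
      a.comp g = s.comp f ∧ RingHom.ker s = P.asIdeal ∧ RingHom.ker a = Q.asIdeal := by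
  have eI : P.asIdeal.comap f = Q.asIdeal.comap g := congr(($e).asIdeal)
  letI : Algebra (P.asIdeal.comap f).ResidueField P.asIdeal.ResidueField :=
    (Ideal.ResidueField.map (P.asIdeal.comap f) P.asIdeal f rfl).toAlgebra
  letI : Algebra (P.asIdeal.comap f).ResidueField Q.asIdeal.ResidueField :=
    (Ideal.ResidueField.map (P.asIdeal.comap f) Q.asIdeal g eI).toAlgebra
  let T := P.asIdeal.ResidueField ⊗[(P.asIdeal.comap f).ResidueField] Q.asIdeal.ResidueField
  have : Nontrivial T := Algebra.TensorProduct.nontrivial_of_algebraMap_injective_of_flat_left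
    (R := (P.asIdeal.comap f).ResidueField) _ _
    (algebraMap (P.asIdeal.comap f).ResidueField Q.asIdeal.ResidueField).injective
  obtain ⟨m, hm⟩ := Ideal.exists_maximal T
  letI := Ideal.Quotient.field m
  let iP : P.asIdeal.ResidueField →+* T ⧸ m :=
    (Ideal.Quotient.mk m).comp Algebra.TensorProduct.includeLeftRingHom
  let iQ : Q.asIdeal.ResidueField →+* T ⧸ m :=
    (Ideal.Quotient.mk m).comp (Algebra.TensorProduct.includeRight :
      Q.asIdeal.ResidueField →ₐ[(P.asIdeal.comap f).ResidueField] T).toRingHom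
  refine ⟨T ⧸ m, inferInstance, inferInstance, iP.comp (algebraMap S _), iQ.comp (algebraMap A _),
    RingHom.ext fun r => ?_, ?_, ?_⟩
  · simp only [RingHom.comp_apply, iP, iQ]
    congr 1
    show (1 : P.asIdeal.ResidueField) ⊗ₜ algebraMap A _ (g r) = algebraMap S _ (f r) ⊗ₜ 1
    rw [← Ideal.ResidueField.map_algebraMap (P.asIdeal.comap f) Q.asIdeal g eI r,
      ← Ideal.ResidueField.map_algebraMap (P.asIdeal.comap f) P.asIdeal f rfl r]
    exact (Algebra.TensorProduct.tmul_one_eq_one_tmul (A := P.asIdeal.ResidueField)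
      (B := Q.asIdeal.ResidueField) (algebraMap R (P.asIdeal.comap f).ResidueField r)).symm
  · rw [← RingHom.comap_ker, (RingHom.injective_iff_ker_eq_bot iP).1 iP.injective]
    exact Ideal.ker_algebraMap_residueField _
  · rw [← RingHom.comap_ker, (RingHom.injective_iff_ker_eq_bot iQ).1 iQ.injective]
    exact Ideal.ker_algebraMap_residueField _

/-- A prime over two primes with the same contraction. -/
theorem exists_prime (h : IsPO f g f' g') (P : PrimeSpectrum S) (Q : PrimeSpectrum A)
    (e : PrimeSpectrum.comap f P = PrimeSpectrum.comap g Q) :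
    ∃ r : PrimeSpectrum B, PrimeSpectrum.comap g' r = P ∧ PrimeSpectrum.comap f' r = Q := by
  obtain ⟨T, _, _, s, a, hc, hs, ha⟩ := exists_common f g P Q e
  obtain ⟨k, hk1, hk2⟩ := h.exists_lift s a hc
  refine ⟨⟨RingHom.ker k, RingHom.ker_isPrime k⟩, PrimeSpectrum.ext ?_, PrimeSpectrum.ext ?_⟩
  · show (RingHom.ker k).comap g' = P.asIdeal
    rw [RingHom.comap_ker, hk1, hs]
  · show (RingHom.ker k).comap f' = Q.asIdeal
    rw [RingHom.comap_ker, hk2, ha]

theorem of_bijective {f : R →+* S} {g : R →+* A} {f' : A →+* B} {g' : S →+* B}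
    (hf : Function.Bijective f) (hf' : Function.Bijective f') (comm : f'.comp g = g'.comp f) :
    IsPO f g f' g' where
  comm := comm
  ext a b h1 _ := RingHom.ext fun x => by
    obtain ⟨y, rfl⟩ := hf'.2 x
    exact congr($h1 y)
  exists_lift {T} _ s a e := by
    refine ⟨a.comp (RingEquiv.ofBijective f' hf').symm.toRingHom, RingHom.ext fun x => ?_,
      RingHom.ext fun x => congrArg a ((RingEquiv.ofBijective f' hf').symm_apply_apply x)⟩
    obtain ⟨r, rfl⟩ := hf.2 x
    have h1 : g' (f r) = f' (g r) := congr($comm.symm r)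
    simp only [RingHom.comp_apply, h1]
    exact (congrArg a ((RingEquiv.ofBijective f' hf').symm_apply_apply (g r))).trans congr($e r)

end IsPO

section Bridge

variable [Algebra R A] [Algebra S B] {f : R →+* S}

/-- A base change square of algebras is a pushout of rings. -/
theorem isPO_of_isBCAlong (F : A →ₛₗ[f] B) (f' : A →+* B) (hF : ∀ a, F a = f' a)
    (h : SchFin.IsBCAlong f F) : IsPO f (algebraMap R A) f' (algebraMap S B) := by
  letI : Algebra R S := f.toAlgebra
  letI : Algebra R B := Algebra.compHom B f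
  haveI : IsScalarTower R S B := IsScalarTower.of_algebraMap_smul fun _ _ => rfl
  have comm : ∀ r, f' (algebraMap R A r) = algebraMap S B (f r) := fun r => by
    rw [← hF, Algebra.algebraMap_eq_smul_one, F.map_smulₛₗ, hF, map_one,
      Algebra.algebraMap_eq_smul_one]
  let φ : A →ₐ[R] B := { f' with commutes' := fun r => comm r }
  let ψ : S ⊗[R] A →ₐ[S] B :=
    Algebra.TensorProduct.lift (Algebra.ofId S B) φ fun _ _ => Commute.all _ _
  have hψ : Function.Bijective ψ := by
    unfold SchFin.IsBCAlong at h
    have hb := h.equiv.bijective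
    convert hb using 1
    funext x
    induction x using TensorProduct.induction_on with
    | zero => simp
    | add a b ha hb => simp only [map_add, ha, hb]
    | tmul s a =>
      rw [IsBaseChange.equiv_tmul]
      simp only [ψ, Algebra.TensorProduct.lift_tmul, Algebra.ofId_apply]
      rw [Algebra.smul_def]
      exact congrArg _ (hF a).symm
  refine ⟨RingHom.ext comm, fun a b h1 h2 => RingHom.ext fun x => ?_, fun {T} _ s a e => ?_⟩
  · obtain ⟨y, rfl⟩ := hψ.2 x
    induction y using TensorProduct.induction_on with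
    | zero => simp
    | add p q hp hq => simp only [map_add, hp, hq]
    | tmul σ α =>
      simp only [ψ, Algebra.TensorProduct.lift_tmul, Algebra.ofId_apply, map_mul]
      exact congr_arg₂ (· * ·) congr($h2 σ) congr($h1 α)
  · letI : Algebra R T := (s.comp f).toAlgebra
    let sA : S →ₐ[R] T := { s with commutes' := fun _ => rfl }
    let aA : A →ₐ[R] T := { a with commutes' := fun r => congr($e r) }
    let L : S ⊗[R] A →ₐ[R] T := Algebra.TensorProduct.lift sA aA fun _ _ => Commute.all _ _
    let E := (RingEquiv.ofBijective ψ hψ)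
    refine ⟨L.toRingHom.comp E.symm.toRingHom, RingHom.ext fun σ => ?_, RingHom.ext fun α => ?_⟩
    · have : E.symm (algebraMap S B σ) = σ ⊗ₜ[R] (1 : A) := by
        rw [RingEquiv.symm_apply_eq]; simp [E, ψ]
      simp [this, L, sA]
    · have : E.symm (f' α) = (1 : S) ⊗ₜ[R] α := by
        rw [RingEquiv.symm_apply_eq]; simp [E, ψ, φ]
      simp [this, L, aA]

/-- A pushout of rings is a base change square. -/
theorem isBCAlong_of_isPO (F : A →ₛₗ[f] B) (f' : A →+* B) (hF : ∀ a, F a = f' a)
    (h : IsPO f (algebraMap R A) f' (algebraMap S B)) : SchFin.IsBCAlong f F := by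
  letI : Algebra R S := f.toAlgebra
  letI : Algebra R B := Algebra.compHom B f
  haveI : IsScalarTower R S B := IsScalarTower.of_algebraMap_smul fun _ _ => rfl
  let φ : A →ₐ[R] B := { f' with commutes' := fun r => h.comm_apply r }
  let ψ : S ⊗[R] A →ₐ[S] B :=
    Algebra.TensorProduct.lift (Algebra.ofId S B) φ fun _ _ => Commute.all _ _
  obtain ⟨k, hk1, hk2⟩ := h.exists_lift
    (Algebra.TensorProduct.includeLeftRingHom : S →+* S ⊗[R] A)
    (Algebra.TensorProduct.includeRight : A →ₐ[R] S ⊗[R] A).toRingHom
    (RingHom.ext fun r => by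
      simp only [RingHom.comp_apply]
      exact (Algebra.TensorProduct.tmul_one_eq_one_tmul (A := S) (B := A) r).symm)
  have h1 : ∀ x, k (ψ x) = x := fun x => by
    induction x using TensorProduct.induction_on with
    | zero => simp
    | add p q hp hq => simp only [map_add, hp, hq]
    | tmul σ α =>
      simp only [ψ, Algebra.TensorProduct.lift_tmul, Algebra.ofId_apply, map_mul]
      rw [show k (algebraMap S B σ) = σ ⊗ₜ[R] (1 : A) from congr($hk1 σ),
        show k (φ α) = (1 : S) ⊗ₜ[R] α from congr($hk2 α)]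
      simp
  have h2 : ψ.toRingHom.comp k = RingHom.id B := by
    refine h.ext _ _ (RingHom.ext fun α => ?_) (RingHom.ext fun σ => ?_)
    · simp only [RingHom.comp_apply, RingHom.id_apply]
      rw [show k (f' α) = (1 : S) ⊗ₜ[R] α from congr($hk2 α)]
      simp [ψ, φ]
    · simp only [RingHom.comp_apply, RingHom.id_apply]
      rw [show k (algebraMap S B σ) = σ ⊗ₜ[R] (1 : A) from congr($hk1 σ)]
      simp [ψ]
  unfold SchFin.IsBCAlong
  refine IsBaseChange.of_equiv (LinearEquiv.ofBijective ψ.toLinearMap
    ⟨Function.LeftInverse.injective h1, fun b => ⟨k b, congr($h2 b)⟩⟩) fun x => ?_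
  simp [ψ, φ]
  exact (hF x).symm

end Bridge

end Groth.Agent.SchFinLib
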