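import Groth.Agent.SchFinLib.PO

/-!
# Sections and cohomology in degree zero
-/

set_option autoImplicit false
set_option linter.style.haveILetI false

open SchFin

universe u

namespace Groth.Agent.SchFinLib

theorem isBCAlong_congr {R S : Type u} [CommRing R] [CommRing S] {g : R →+* S}
    {M N M' N' : Type u} [AddCommGroup M] [AddCommGroup N] [AddCommGroup M'] [AddCommGroup N']
    [Module R M] [Module S N] [Module R M'] [Module S N'] (eM : M ≃ₗ[R] M') (eN : N ≃ₗ[S] N')
    (F : M →ₛₗ[g] N) (F' : M' →ₛₗ[g] N') (h : ∀ m, F' (eM m) = eN (F m)) :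
    IsBCAlong g F ↔ IsBCAlong g F' := by
  letI : Algebra R S := g.toAlgebra
  letI : Module R N := Module.compHom N g
  letI : Module R N' := Module.compHom N' g
  haveI : IsScalarTower R S N := IsScalarTower.of_algebraMap_smul fun _ _ => rfl
  haveI : IsScalarTower R S N' := IsScalarTower.of_algebraMap_smul fun _ _ => rfl
  exact IsBaseChange.iff_of_equiv_comm eM eN (LinearMap.ext h)

theorem isBCAlong_of_subsingleton {R S : Type u} [CommRing R] [CommRing S] {g : R →+* S}
    {M N : Type u} [AddCommGroup M] [AddCommGroup N] [Module R M] [Module S N]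
    [Subsingleton M] [Subsingleton N] (F : M →ₛₗ[g] N) : IsBCAlong g F := by
  letI : Algebra R S := g.toAlgebra
  letI : Module R N := Module.compHom N g
  haveI : IsScalarTower R S N := IsScalarTower.of_algebraMap_smul fun _ _ => rfl
  exact IsBaseChange.of_equiv (LinearEquiv.ofSubsingleton _ _) fun _ => Subsingleton.elim _ _

variable {X : RSpace.{u}}

/-- Restriction of sections to a smaller set of points. -/
def sectRes {U U' : Set X.pt} (h : U' ⊆ U) : X.sectRing U →+* X.sectRing U' where
  toFun s := ⟨fun q => s.1 ⟨q.1, h q.2⟩, fun q q' hq => s.2 ⟨q.1, h q.2⟩ ⟨q'.1, h q'.2⟩ hq⟩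
  map_one' := rfl
  map_mul' _ _ := rfl
  map_zero' := rfl
  map_add' _ _ := rfl

theorem sect_ext {U : Set X.pt} {s t : X.sectRing U} (h : ∀ q, s.1 q = t.1 q) : s = t :=
  Subtype.ext (funext h)

theorem evalRing_bijective_of_least {U : Set X.pt} (m : U) (hm : ∀ q : U, m.1 ≤ q.1) :
    Function.Bijective (X.evalRing U m) := by
  refine ⟨fun s t h => sect_ext fun q => ?_, fun a => ⟨⟨fun q => X.res (hm q) a, ?_⟩, X.res_self _ a⟩⟩
  · rw [← s.2 m q (hm q), ← t.2 m q (hm q)]
    exact congrArg _ h
  · intro q q' hq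
    exact X.res_comp _ _ a

theorem subsingleton_sectRing {U : Set X.pt} [IsEmpty U] : Subsingleton (X.sectRing U) :=
  ⟨fun s t => sect_ext fun q => isEmptyElim q⟩

/-- A coefficient structure as a ring map to the sections. -/
def toSect {U : Set X.pt} {R : Type u} [CommRing R] (φ : Coef X U R) : R →+* X.sectRing U where
  toFun a := ⟨fun q => φ.map q a, fun q q' h => φ.compat q q' h a⟩
  map_one' := sect_ext fun q => map_one (φ.map q)
  map_mul' a b := sect_ext fun q => map_mul (φ.map q) a b
  map_zero' := sect_ext fun q => map_zero (φ.map q)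
  map_add' a b := sect_ext fun q => map_add (φ.map q) a b

section H0

variable {U : Set X.pt} {R : Type u} [CommRing R] (φ : Coef X U R)

/-- The one-point chain. -/
def single (q : U) : Chain U 0 :=
  OrderEmbedding.ofMapLEIff (fun _ => q) fun a b => by simp [show a = b from Fin.ext (by omega)]

theorem chain_zero_eq (σ : Chain U 0) : ∃ q, σ = single q :=
  ⟨σ 0, RelEmbedding.ext fun i => by rw [show i = 0 from Fin.ext (by omega)]; rfl⟩

/-- The cochain of a family. -/
def cochainOf (s : ∀ q : U, X.ring q.1) : Cochain φ X.str 0 := fun σ => s (σ (Fin.last 0))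

theorem cochainOf_eq (c : Cochain φ X.str 0) : cochainOf φ (fun q => c (single q)) = c := by
  funext σ
  obtain ⟨q, rfl⟩ := chain_zero_eq σ
  rfl

theorem diff_cochainOf (s : ∀ q : U, X.ring q.1) (σ : Chain U 1) :
    diff φ X.str 0 (cochainOf φ s) σ =
      s (σ (Fin.last 1)) - X.res (show (σ 0).1 ≤ (σ (Fin.last 1)).1 from σ.monotone (Fin.zero_le _)) (s (σ 0)) := by
  show ∑ j : Fin 2, ((-1 : ℤ) ^ (j : ℕ)) • (cochainOf φ s).faceVal σ j = _
  rw [Fin.sum_univ_two]
  simp only [Fin.val_zero, pow_zero, one_smul, Fin.val_one, pow_one, neg_smul, one_smul]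
  rw [← sub_eq_add_neg]
  congr 1
  exact X.res_self _ _

theorem cochainOf_mem_cocycles_iff (s : ∀ q : U, X.ring q.1) :
    cochainOf φ s ∈ cocycles φ X.str 0 ↔ s ∈ X.sectRing U := by
  classical
  rw [cocycles, LinearMap.mem_ker]
  refine ⟨fun h q q' hq => ?_, fun h => funext fun σ => ?_⟩
  · rcases (show q ≤ q' from hq).lt_or_eq with hlt | heq
    · let σ : Chain U 1 := OrderEmbedding.ofStrictMono ![q, q'] (Fin.strictMono_iff_lt_succ.2
        fun i => by fin_cases i; simpa using hlt)
      have := congrFun h σ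
      rw [diff_cochainOf] at this
      exact (sub_eq_zero.1 this).symm
    · subst heq
      exact X.res_self _ _
  · rw [diff_cochainOf]
    exact sub_eq_zero.2 (h _ _ _).symm

/-- Sections, as cocycles of degree zero. -/
noncomputable def sectEquivH0 :
    letI := (toSect φ).toAlgebra
    X.sectRing U ≃ₗ[R] H φ X.str 0 :=
  letI := (toSect φ).toAlgebra
  LinearEquiv.ofBijective
    ((H.mk (φ := φ) X.str 0).comp
      ({ toFun := fun s => ⟨cochainOf φ s.1, (cochainOf_mem_cocycles_iff φ s.1).2 s.2⟩
         map_add' := fun _ _ => rfl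
         map_smul' := fun _ _ => rfl } : X.sectRing U →ₗ[R] cocycles φ X.str 0))
    ⟨by
      intro s t h
      have h' := (Submodule.Quotient.eq _).1 h
      have h'' : cochainOf φ s.1 - cochainOf φ t.1 = 0 := (Submodule.mem_bot R).1 h'
      exact sect_ext fun q => congrFun (sub_eq_zero.1 h'') (single q),
    fun x => by
      obtain ⟨c, rfl⟩ := Submodule.mkQ_surjective _ x
      have hc : cochainOf φ (fun q => c.1 (single q)) ∈ cocycles φ X.str 0 := by
        rw [cochainOf_eq]; exact c.2
      exact ⟨⟨fun q => c.1 (single q), (cochainOf_mem_cocycles_iff φ _).1 hc⟩,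
        congrArg (H.mk (φ := φ) X.str 0) (Subtype.ext (cochainOf_eq φ c.1))⟩⟩

end H0

/-- The schematic conditions in degree zero are pushout squares of rings. -/
theorem isBCAlong_resH_zero_iff {U U' : Set X.pt} {R R' : Type u} [CommRing R] [CommRing R']
    {φ : Coef X U R} {φ' : Coef X U' R'} (s : Coef.Sub φ φ') :
    IsBCAlong s.hom (resH X.str s 0) ↔ IsPO s.hom (toSect φ) (sectRes s.le) (toSect φ') := by
  letI := (toSect φ).toAlgebra
  letI := (toSect φ').toAlgebra
  let F : X.sectRing U →ₛₗ[s.hom] X.sectRing U' :=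
    { toFun := sectRes s.le
      map_add' := map_add _
      map_smul' := fun r x => by
        refine sect_ext fun q => ?_
        show φ.map ⟨q.1, s.le q.2⟩ r * x.1 ⟨q.1, s.le q.2⟩ =
          φ'.map q (s.hom r) * x.1 ⟨q.1, s.le q.2⟩
        rw [s.compat] }
  rw [← isBCAlong_congr (sectEquivH0 φ) (sectEquivH0 φ') F (resH X.str s 0) fun m => rfl]
  exact ⟨isPO_of_isBCAlong F (sectRes s.le) fun _ => rfl,
    fun h => isBCAlong_of_isPO F (sectRes s.le) (fun _ => rfl) h⟩

theorem subsingleton_H_succ {U : Set X.pt} {R : Type u} [CommRing R] (φ : Coef X U R) (M : OMod X)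
    (n : ℕ) [IsEmpty (Chain U (n + 1))] : Subsingleton (H φ M (n + 1)) := by
  have : Subsingleton (Cochain φ M (n + 1)) := ⟨fun c d => funext fun σ => isEmptyElim σ⟩
  exact (Submodule.mkQ_surjective _).subsingleton

end Groth.Agent.SchFinLib
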